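import Mathlib
import Cfsg.Agent.S0009
import Cfsg.Agent.S0010
import Cfsg.Agent.S0542
import Cfsg.Agent.S3743
import Cfsg.Agent.Helper10.FStar
import Cfsg.Agent.Helper10.Sub
import Cfsg.Agent.Helper1.Transfer
import Cfsg.Agent.Helper1.NC
import Cfsg.Agent.Helper1.Coprime

/-!
# Groups with a cyclic Sylow `p`-subgroup and `O_{p'} = 1` (helper24)
-/

set_option autoImplicit false
set_option linter.style.haveILetI false

namespace Cfsg.Agent.Helper24

open Cfsg
open scoped commutatorElement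

universe u

/-- in a finite cyclic group, two elements of the same prime order generate the same subgroup. -/
theorem h24_cyc_mem_zpowers {C : Type*} [Group C] [Finite C] [IsCyclic C] {p : ℕ}
    [Fact p.Prime] (a b : C) (ha : orderOf a = p) (hb : orderOf b = p) :
    b ∈ Subgroup.zpowers a := by
  have hp : p.Prime := Fact.out
  obtain ⟨g, hg⟩ := IsCyclic.exists_generator (α := C)
  have hN : orderOf g = Nat.card C := orderOf_eq_card_of_forall_mem_zpowers hg
  have hpN : p ∣ orderOf g := by rw [hN, ← ha]; exact orderOf_dvd_natCard a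
  obtain ⟨M, hM⟩ := hpN
  have hN0 : orderOf g ≠ 0 := by rw [hN]; exact Nat.card_pos.ne'
  have hM0 : M ≠ 0 := by rintro rfl; rw [mul_zero] at hM; exact hN0 hM
  set c := g ^ M with hc
  have hco : orderOf c = p := by
    rw [hc, orderOf_pow' g hM0, hM, Nat.gcd_eq_right (Dvd.intro_left p rfl),
      Nat.mul_div_cancel _ (Nat.pos_of_ne_zero hM0)]
  have key : ∀ x : C, x ^ p = 1 → x ∈ Subgroup.zpowers c := by
    intro x hx
    obtain ⟨k, rfl⟩ := Subgroup.mem_zpowers_iff.mp (hg x)
    have h1 : g ^ (k * (p : ℤ)) = 1 := by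
      rw [zpow_mul, zpow_natCast]; exact hx
    have h2 : (orderOf g : ℤ) ∣ k * (p : ℤ) := orderOf_dvd_iff_zpow_eq_one.mpr h1
    rw [hM] at h2
    push_cast at h2
    have h3 : (M : ℤ) ∣ k := by
      have hp0 : (p : ℤ) ≠ 0 := by exact_mod_cast hp.ne_zero
      rw [mul_comm (p : ℤ) (M : ℤ)] at h2
      exact Int.dvd_of_mul_dvd_mul_right hp0 h2
    obtain ⟨j, rfl⟩ := h3
    rw [Subgroup.mem_zpowers_iff]
    exact ⟨j, by rw [hc, ← zpow_natCast, ← zpow_mul]⟩
  have hac : a ∈ Subgroup.zpowers c := key a (by rw [← ha]; exact pow_orderOf_eq_one a)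
  have hbc : b ∈ Subgroup.zpowers c := key b (by rw [← hb]; exact pow_orderOf_eq_one b)
  have hle : Subgroup.zpowers a ≤ Subgroup.zpowers c := by
    rw [Subgroup.zpowers_le]; exact hac
  have heq : Subgroup.zpowers a = Subgroup.zpowers c := by
    apply Subgroup.eq_of_le_of_card_ge hle
    rw [Nat.card_zpowers, Nat.card_zpowers, ha, hco]
  rw [heq]; exact hbc

/-- two nontrivial subgroups of a cyclic `p`-subgroup meet nontrivially. -/
theorem h24_cyc_inf_ne_bot {K : Type*} [Group K] [Finite K] {p : ℕ} [Fact p.Prime]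
    (P : Subgroup K) [IsCyclic P] (hP : IsPGroup p P) (A B : Subgroup K) (hA : A ≤ P)
    (hB : B ≤ P) (hA1 : A ≠ ⊥) (hB1 : B ≠ ⊥) : A ⊓ B ≠ ⊥ := by
  have hp : p.Prime := Fact.out
  have hex : ∀ A : Subgroup K, A ≤ P → A ≠ ⊥ → ∃ a ∈ A, orderOf a = p := by
    intro A hA hA1
    have hApg : IsPGroup p A := hP.to_le hA
    obtain ⟨n, hn⟩ := hApg.exists_card_eq
    have hn0 : n ≠ 0 := by
      rintro rfl
      rw [pow_zero] at hn
      exact hA1 ((Subgroup.card_eq_one).mp hn)
    have hdvd : p ∣ Nat.card A := by rw [hn]; exact dvd_pow_self p hn0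
    obtain ⟨a', ha'⟩ := exists_prime_orderOf_dvd_card' p hdvd
    exact ⟨(a' : K), a'.2, by rw [Subgroup.orderOf_coe]; exact ha'⟩
  obtain ⟨a, haA, hao⟩ := hex A hA hA1
  obtain ⟨b, hbB, hbo⟩ := hex B hB hB1
  have h1 := h24_cyc_mem_zpowers (C := P) (p := p) ⟨b, hB hbB⟩ ⟨a, hA haA⟩
    (by rw [Subgroup.orderOf_mk]; exact hbo) (by rw [Subgroup.orderOf_mk]; exact hao)
  obtain ⟨k, hk⟩ := Subgroup.mem_zpowers_iff.mp h1
  have hk' : b ^ k = a := by
    have := congrArg Subtype.val hk
    simpa using this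
  intro hbot
  have haB : a ∈ B := hk' ▸ B.zpow_mem hbB k
  have : a ∈ A ⊓ B := ⟨haA, haB⟩
  rw [hbot, Subgroup.mem_bot] at this
  rw [this, orderOf_one] at hao
  exact hp.one_lt.ne hao

/-- if `O_{p'}(K) = 1` then `F(K) = O_p(K)`. -/
theorem h24_fitting_eq_pCore {K : Type*} [Group K] [Finite K] (p : ℕ) [Fact p.Prime]
    (hO : Cfsg.pPrimeCore p K = ⊥) : Cfsg.fittingSubgroup K = Cfsg.pCore p K := by
  have hp : p.Prime := Fact.out
  rw [Cfsg.Agent.S0009.result]
  apply le_antisymm
  · apply iSup_le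
    intro q
    by_cases hq : (q : ℕ) = p
    · rw [hq]
    · haveI : Fact (q : ℕ).Prime := ⟨q.2⟩
      have h1 : Cfsg.pCore (q : ℕ) K ≤ Cfsg.pPrimeCore p K := by
        apply le_sSup
        refine ⟨Cfsg.Agent.S0010.pCore_normal _, ?_⟩
        obtain ⟨n, hn⟩ := (Cfsg.Agent.S0010.pCore_isPGroup (G := K) (q : ℕ)).exists_card_eq
        rw [hn]
        exact Nat.Coprime.pow_left n ((Nat.coprime_primes q.2 hp).mpr hq)
      rw [hO] at h1
      exact h1.trans bot_le
  · exact le_iSup (fun q : Nat.Primes => Cfsg.pCore (q : ℕ) K) ⟨p, hp⟩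

/-- if `O_{p'}(K) = 1`, a subnormal subgroup of order prime to `p` is trivial. -/
theorem h24_subnormal_pprime_eq_bot {K : Type*} [Group K] [Finite K] (p : ℕ) [Fact p.Prime]
    (hO : Cfsg.pPrimeCore p K = ⊥) (L : Subgroup K) (hL : L.IsSubnormal)
    (hcop : ¬ p ∣ Nat.card L) : L = ⊥ := by
  have hp : p.Prime := Fact.out
  have h := (Cfsg.Agent.S3743.result L hL).2 {q | q ≠ p}
    (fun q _ hdvd => by rintro rfl; exact hcop hdvd)
  have h2 : Cfsg.piCore {q | q ≠ p} K ≤ Cfsg.pPrimeCore p K := by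
    apply sSup_le
    rintro N ⟨hN, hNπ⟩
    apply le_sSup
    refine ⟨hN, ((Nat.Prime.coprime_iff_not_dvd hp).2 ?_).symm⟩
    intro hdvd
    exact hNπ p hp hdvd rfl
  rw [hO] at h2
  exact le_bot_iff.mp (h.trans h2)

/-- if `O_{p'}(K) = 1`, every component meets every Sylow `p`-subgroup nontrivially. -/
theorem h24_sylow_inf_comp_ne_bot {K : Type*} [Group K] [Finite K] (p : ℕ) [Fact p.Prime]
    (hO : Cfsg.pPrimeCore p K = ⊥) (P : Sylow p K) (L : Subgroup K) (hL : Cfsg.IsComponent L) :
    (P : Subgroup K) ⊓ L ≠ ⊥ := by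
  intro h
  obtain ⟨Q, hQ⟩ := Cfsg.Agent.S0542.result p L hL.1 P
  have hbot : (P : Subgroup K).subgroupOf L = ⊥ :=
    Subgroup.subgroupOf_eq_bot.mpr (disjoint_iff.mpr h)
  have hnd := Sylow.not_dvd_index Q
  rw [hQ, hbot, Subgroup.index_bot] at hnd
  exact Cfsg.Agent.Helper10.comp_ne_bot hL (h24_subnormal_pprime_eq_bot p hO L hL.1 hnd)

/-- an element of an abelian Sylow `p`-subgroup lying in a component and centralizing it is
trivial (transfer). -/
theorem h24_comp_central_eq_one {K : Type*} [Group K] [Finite K] (p : ℕ) [Fact p.Prime]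
    (P : Sylow p K) (hPc : ∀ a ∈ (P : Subgroup K), ∀ b ∈ (P : Subgroup K), a * b = b * a)
    (L : Subgroup K) (hL : Cfsg.IsComponent L) (z : K) (hzP : z ∈ (P : Subgroup K))
    (hzL : z ∈ L) (hc : ∀ y ∈ L, y * z = z * y) : z = 1 := by
  have hp : p.Prime := Fact.out
  obtain ⟨Q, hQ⟩ := Cfsg.Agent.S0542.result p L hL.1 P
  haveI hcomm : IsMulCommutative ((P : Subgroup K).subgroupOf L) :=
    ⟨⟨fun a b => Subtype.ext (Subtype.ext (hPc _ (Subgroup.mem_subgroupOf.mp a.2) _
      (Subgroup.mem_subgroupOf.mp b.2)))⟩⟩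
  have hHall : Nat.Coprime (Nat.card ((P : Subgroup K).subgroupOf L))
      ((P : Subgroup K).subgroupOf L).index := by
    rw [← hQ]
    obtain ⟨n, hn⟩ := Q.2.exists_card_eq
    rw [hn]
    exact Nat.Coprime.pow_left n ((Nat.Prime.coprime_iff_not_dvd hp).2 (Sylow.not_dvd_index Q))
  have key := Cfsg.Agent.Helper1.hall_abelian_inf_commutator_inf_center
    ((P : Subgroup K).subgroupOf L) hHall
  have hperf : commutator L = ⊤ := hL.2.1.commutator_eq_top
  have hmem : (⟨z, hzL⟩ : L) ∈ (P : Subgroup K).subgroupOf L ⊓ commutator L ⊓ Subgroup.center L := by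
    refine ⟨⟨Subgroup.mem_subgroupOf.mpr hzP, by rw [hperf]; exact Subgroup.mem_top _⟩, ?_⟩
    refine Subgroup.mem_center_iff.mpr ?_
    intro g
    exact Subtype.ext (hc g g.2)
  rw [key, Subgroup.mem_bot] at hmem
  exact congrArg Subtype.val hmem

open scoped Pointwise in
/-- Let `L` be normal in `M` with `M = L P` for a cyclic Sylow `p`-subgroup `P ≰ L`. Then
`N_M(P) ≤ C_M(P)`. -/
theorem h24_normalizer_le_centralizer_of_cyclic {M : Type*} [Group M] [Finite M] (p : ℕ)
    [Fact p.Prime] (L : Subgroup M) [L.Normal] (P : Sylow p M) [IsCyclic ↥(P : Subgroup M)]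
    (hsup : L ⊔ (P : Subgroup M) = ⊤) (hPL : ¬ (P : Subgroup M) ≤ L) :
    Subgroup.normalizer ((P : Subgroup M) : Set M) ≤
      Subgroup.centralizer ((P : Subgroup M) : Set M) := by
  have hp : p.Prime := Fact.out
  by_contra h
  obtain ⟨x, hxN, hxo, hxC⟩ := Cfsg.Agent.Helper1.exists_pprime_not_mem_centralizer P h
  set A := Subgroup.zpowers x with hA
  have hAV : A ≤ Subgroup.normalizer ((P : Subgroup M) : Set M) := by
    rw [hA, Subgroup.zpowers_le]; exact hxN
  have hcop : (Nat.card A).Coprime (Nat.card (P : Subgroup M)) := by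
    obtain ⟨n, hn⟩ := P.2.exists_card_eq
    rw [hn, hA, Nat.card_zpowers]
    exact Nat.Coprime.pow_right n hxo
  have h1 := Cfsg.Agent.Helper1.coprime_abelian_inf A (P : Subgroup M) hAV hcop
  have h2 := Cfsg.Agent.Helper1.coprime_abelian_sup A (P : Subgroup M) hAV hcop
  have h3 : ⁅(P : Subgroup M), A⁆ ≤ (P : Subgroup M) :=
    Cfsg.Agent.Helper1.commutator_le_of_le_normalizer A (P : Subgroup M) hAV
  have hPc : ∀ a ∈ (P : Subgroup M), ∀ b ∈ (P : Subgroup M), a * b = b * a := by
    intro a ha b hb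
    have := (inferInstance : IsMulCommutative ↥(P : Subgroup M)).is_comm.comm ⟨a, ha⟩ ⟨b, hb⟩
    exact congrArg Subtype.val this
  have h4 : ⁅(P : Subgroup M), A⁆ ≤ L := by
    rw [Subgroup.commutator_le]
    intro u hu w _
    have hw : w ∈ ((L ⊔ (P : Subgroup M) : Subgroup M) : Set M) := by
      rw [hsup]; exact Set.mem_univ w
    rw [Subgroup.normal_mul, Set.mem_mul] at hw
    obtain ⟨l, hl, v, hv, rfl⟩ := hw
    have e : ⁅u, l * v⁆ = (u * l * u⁻¹) * l⁻¹ := by
      have hvu : v * u⁻¹ = u⁻¹ * v := hPc v hv u⁻¹ ((P : Subgroup M).inv_mem hu)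
      rw [commutatorElement_def]
      calc u * (l * v) * u⁻¹ * (l * v)⁻¹ = u * l * (v * u⁻¹) * v⁻¹ * l⁻¹ := by group
        _ = u * l * (u⁻¹ * v) * v⁻¹ * l⁻¹ := by rw [hvu]
        _ = (u * l * u⁻¹) * l⁻¹ := by group
    rw [e]
    exact L.mul_mem (‹L.Normal›.conj_mem l hl u) (L.inv_mem hl)
  by_cases hcase : ⁅(P : Subgroup M), A⁆ = ⊥
  · apply hxC
    rw [Subgroup.mem_centralizer_iff]
    intro u hu
    have : ⁅u, x⁆ ∈ ⁅(P : Subgroup M), A⁆ :=
      Subgroup.commutator_mem_commutator hu (Subgroup.mem_zpowers x)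
    rw [hcase, Subgroup.mem_bot] at this
    exact commutatorElement_eq_one_iff_mul_comm.mp this
  · have hC : (P : Subgroup M) ⊓ Subgroup.centralizer (A : Set M) = ⊥ := by
      by_contra hC
      exact h24_cyc_inf_ne_bot (P : Subgroup M) P.2 _ _ inf_le_left h3 hC hcase h1
    rw [hC, bot_sup_eq] at h2
    exact hPL (h2 ▸ h4)

/-- Let `L` be a normal non-abelian simple subgroup of `M` of order divisible by `p`, with
`M = L P` for a cyclic Sylow `p`-subgroup `P`. Then `P ≤ L`. -/
theorem h24_cyclic_sylow_le_simple_aux {M : Type*} [Group M] [Finite M] (p : ℕ)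
    [Fact p.Prime] (L : Subgroup M) [L.Normal] (P : Sylow p M) [IsCyclic ↥(P : Subgroup M)]
    (hsup : L ⊔ (P : Subgroup M) = ⊤) (hs : IsSimpleGroup ↥L)
    (hnc : ¬ ∀ a b : L, a * b = b * a) (hpL : p ∣ Nat.card L) : (P : Subgroup M) ≤ L := by
  have hp : p.Prime := Fact.out
  by_contra hPL
  have h := h24_normalizer_le_centralizer_of_cyclic p L P hsup hPL
  set W := (MonoidHom.transferSylow P h).ker with hW
  have hcompl : W.IsComplement' (P : Subgroup M) := MonoidHom.ker_transferSylow_isComplement' P h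
  have hWnd : ¬ p ∣ Nat.card W := MonoidHom.not_dvd_card_ker_transferSylow P h
  have hWn : W.Normal := by rw [hW]; infer_instance
  have hWL : (W.subgroupOf L).Normal := hWn.subgroupOf L
  rcases hWL.eq_bot_or_eq_top with hb | ht
  · -- L embeds into M ⧸ W, a p-group
    have hinj : Function.Injective ((QuotientGroup.mk' W).comp L.subtype) := by
      rw [← MonoidHom.ker_eq_bot_iff]
      rw [eq_bot_iff]
      intro y hy
      rw [MonoidHom.mem_ker, MonoidHom.comp_apply, QuotientGroup.mk'_apply,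
        QuotientGroup.eq_one_iff] at hy
      have : y ∈ W.subgroupOf L := Subgroup.mem_subgroupOf.mpr hy
      rwa [hb] at this
    have hdvd := Subgroup.card_dvd_of_injective _ hinj
    rw [← Subgroup.index_eq_card] at hdvd
    have hidx : W.index = Nat.card (P : Subgroup M) := by
      have h1 := hcompl.card_mul_card
      have h2 := Subgroup.card_mul_index W
      have hWpos : 0 < Nat.card W := Nat.card_pos
      exact Nat.eq_of_mul_eq_mul_left hWpos (h2.trans h1.symm)
    obtain ⟨n, hn⟩ := P.2.exists_card_eq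
    rw [hidx, hn] at hdvd
    obtain ⟨j, -, hj⟩ := (Nat.dvd_prime_pow hp).mp hdvd
    have hLp : IsPGroup p L := IsPGroup.of_card hj
    have hnil : Group.IsNilpotent L := hLp.isNilpotent
    have hsol : Group.IsSolvable L := inferInstance
    exact hnc (IsSimpleGroup.comm_iff_isSolvable.mpr hsol)
  · have hle : L ≤ W := Subgroup.subgroupOf_eq_top.mp ht
    exact hWnd (hpL.trans (Subgroup.card_dvd_of_le hle))

/-- Let `L` be a normal non-abelian simple subgroup of order divisible by `p` in a finite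
group `K` with a cyclic Sylow `p`-subgroup `P`. Then `P ≤ L`. -/
theorem h24_cyclic_sylow_le_simple {K : Type*} [Group K] [Finite K] (p : ℕ) [Fact p.Prime]
    (L : Subgroup K) [hLn : L.Normal] (P : Sylow p K) (hcyc : IsCyclic ↥(P : Subgroup K))
    (hs : IsSimpleGroup ↥L) (hnc : ¬ ∀ a b : L, a * b = b * a) (hpL : p ∣ Nat.card L) :
    (P : Subgroup K) ≤ L := by
  set M := L ⊔ (P : Subgroup K) with hM
  have hLM : L ≤ M := le_sup_left
  have hPM : (P : Subgroup K) ≤ M := le_sup_right
  haveI : (L.subgroupOf M).Normal := hLn.subgroupOf M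
  let e₁ : ↥(L.subgroupOf M) ≃* ↥L := Subgroup.subgroupOfEquivOfLe hLM
  let e₂ : ↥((P : Subgroup K).subgroupOf M) ≃* ↥(P : Subgroup K) := Subgroup.subgroupOfEquivOfLe hPM
  haveI : IsCyclic ↥((P.subtype hPM : Sylow p M) : Subgroup M) := by
    rw [Sylow.coe_subtype]
    exact isCyclic_of_surjective e₂.symm.toMonoidHom e₂.symm.surjective
  have hsup : L.subgroupOf M ⊔ ((P.subtype hPM : Sylow p M) : Subgroup M) = ⊤ := by
    rw [Sylow.coe_subtype, ← Subgroup.subgroupOf_sup hLM hPM, ← hM, Subgroup.subgroupOf_self]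
  have hs' : IsSimpleGroup ↥(L.subgroupOf M) := e₁.isSimpleGroup
  have hnc' : ¬ ∀ a b : L.subgroupOf M, a * b = b * a := by
    intro hc
    apply hnc
    intro a b
    have := hc (e₁.symm a) (e₁.symm b)
    rw [← map_mul, ← map_mul] at this
    exact e₁.symm.injective this
  have hpL' : p ∣ Nat.card (L.subgroupOf M) := by
    rw [Nat.card_congr e₁.toEquiv]; exact hpL
  have key := h24_cyclic_sylow_le_simple_aux p (L.subgroupOf M) (P.subtype hPM) hsup hs' hnc' hpL'
  rw [Sylow.coe_subtype] at key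
  intro u hu
  have : (⟨u, hPM hu⟩ : M) ∈ L.subgroupOf M := key (Subgroup.mem_subgroupOf.mpr hu)
  exact Subgroup.mem_subgroupOf.mp this

/-- Case `O_p(K) ≠ 1`: the cyclic Sylow `p`-subgroup is normal and self-centralizing, with
`K/P` cyclic of order dividing `p - 1`. -/
theorem h24_cyclic_sylow_case_one {K : Type*} [Group K] [Finite K] (p : ℕ) [Fact p.Prime]
    (hO : Cfsg.pPrimeCore p K = ⊥) (P : Sylow p K) (hcyc : IsCyclic ↥(P : Subgroup K))
    (hQ : Cfsg.pCore p K ≠ ⊥) :
    (P : Subgroup K).Normal ∧ Subgroup.centralizer ((P : Subgroup K) : Set K) = (P : Subgroup K) ∧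
      (∀ (_ : (P : Subgroup K).Normal), IsCyclic (K ⧸ (P : Subgroup K))) ∧
      (P : Subgroup K).index ∣ p - 1 := by
  have hp : p.Prime := Fact.out
  have hF := h24_fitting_eq_pCore p hO
  have hQP : Cfsg.pCore p K ≤ (P : Subgroup K) := by
    rw [Cfsg.Agent.S0010.result]; exact iInf_le _ P
  have hPc : ∀ a ∈ (P : Subgroup K), ∀ b ∈ (P : Subgroup K), a * b = b * a := by
    intro a ha b hb
    have := (inferInstance : IsMulCommutative ↥(P : Subgroup K)).is_comm.comm ⟨a, ha⟩ ⟨b, hb⟩
    exact congrArg Subtype.val this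
  have hnocomp : ∀ L : Subgroup K, ¬ Cfsg.IsComponent L := by
    intro L hL
    have h3a := h24_sylow_inf_comp_ne_bot p hO P L hL
    have hne := h24_cyc_inf_ne_bot (P : Subgroup K) P.2 (Cfsg.pCore p K) ((P : Subgroup K) ⊓ L)
      hQP inf_le_left hQ h3a
    apply hne
    rw [eq_bot_iff]
    rintro z ⟨hzQ, hzP, hzL⟩
    rw [Subgroup.mem_bot]
    apply h24_comp_central_eq_one p P hPc L hL z hzP hzL
    intro y hy
    have hcomm := Cfsg.Agent.Helper10.layer_comm_fitting K
    have hmem : ⁅y, z⁆ ∈ ⁅Cfsg.layer K, Cfsg.fittingSubgroup K⁆ :=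
      Subgroup.commutator_mem_commutator (Cfsg.Agent.Helper10.comp_le_layer hL hy)
        (by rw [hF]; exact hzQ)
    rw [hcomm, Subgroup.mem_bot] at hmem
    exact commutatorElement_eq_one_iff_mul_comm.mp hmem
  have hlayer : Cfsg.layer K = ⊥ := by
    unfold Cfsg.layer
    rw [eq_bot_iff]
    apply sSup_le
    intro L hL
    exact absurd hL (hnocomp L)
  have gF : Cfsg.generalizedFittingSubgroup K = Cfsg.pCore p K := by
    unfold Cfsg.generalizedFittingSubgroup
    rw [hlayer, hF, bot_sup_eq]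
  have hCQ : Subgroup.centralizer ((Cfsg.pCore p K : Subgroup K) : Set K) ≤ Cfsg.pCore p K := by
    have := Cfsg.Agent.Helper10.centralizer_gfitting_le K
    rwa [gF] at this
  have hPQ : (P : Subgroup K) ≤ Cfsg.pCore p K := by
    refine le_trans ?_ hCQ
    intro u hu
    rw [Subgroup.mem_centralizer_iff]
    intro q hq
    exact hPc q (hQP hq) u hu
  have heq : Cfsg.pCore p K = (P : Subgroup K) := le_antisymm hQP hPQ
  have hPn : (P : Subgroup K).Normal := heq ▸ Cfsg.Agent.S0010.pCore_normal p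
  have hCP : Subgroup.centralizer ((P : Subgroup K) : Set K) = (P : Subgroup K) := by
    apply le_antisymm
    · rw [heq] at hCQ; exact hCQ
    · intro u hu
      rw [Subgroup.mem_centralizer_iff]
      intro q hq
      exact hPc q hq u hu
  -- the conjugation action on `P`
  haveI := hPn
  let φ : K →* MulAut ↥(P : Subgroup K) := MulAut.conjNormal
  have hker : ∀ g : K, φ g = 1 → g ∈ (P : Subgroup K) := by
    intro g hg
    rw [← hCP, Subgroup.mem_centralizer_iff]
    intro h hh
    have h1 : (φ g) ⟨h, hh⟩ = ⟨h, hh⟩ := by rw [hg]; rfl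
    have h2 := congrArg Subtype.val h1
    rw [MulAut.conjNormal_apply] at h2
    -- g * h * g⁻¹ = h
    calc h * g = (g * h * g⁻¹) * g := by rw [h2]
      _ = g * h := by group
  have hle : (P : Subgroup K) ≤ φ.ker := by
    intro u hu
    rw [MonoidHom.mem_ker]
    ext ⟨h, hh⟩
    rw [MulAut.conjNormal_apply]
    simp only [MulAut.one_apply]
    have := hPc u hu h hh
    rw [this]; group
  let ψ : K ⧸ (P : Subgroup K) →* MulAut ↥(P : Subgroup K) := QuotientGroup.lift _ φ hle
  have hinj : Function.Injective ψ := by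
    rw [injective_iff_map_eq_one]
    intro x hx
    induction x using QuotientGroup.induction_on with
    | H g =>
      have : φ g = 1 := hx
      exact (QuotientGroup.eq_one_iff g).mpr (hker g this)
  have hdvd := Subgroup.card_dvd_of_injective ψ hinj
  rw [← Subgroup.index_eq_card, IsCyclic.card_mulAut] at hdvd
  have hcardP := Sylow.card_eq_multiplicity P
  have hnpos : 0 < (Nat.card K).factorization p := by
    have hdvdK : p ∣ Nat.card K := by
      have h1 : p ∣ Nat.card (P : Subgroup K) := by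
        by_contra hnd
        apply hQ
        rw [heq, ← Subgroup.card_eq_one]
        obtain ⟨n, hn⟩ := P.2.exists_card_eq
        rcases Nat.eq_zero_or_pos n with h0 | h0
        · rw [hn, h0, pow_zero]
        · exact absurd (hn ▸ dvd_pow_self p h0.ne') hnd
      exact h1.trans (Subgroup.card_subgroup_dvd_card _)
    exact Nat.Prime.factorization_pos_of_dvd hp Nat.card_pos.ne' hdvdK
  rw [hcardP, Nat.totient_prime_pow hp hnpos] at hdvd
  have hidx : (P : Subgroup K).index ∣ p - 1 := by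
    have hnd := Sylow.not_dvd_index P
    have hcop : Nat.Coprime (P : Subgroup K).index (p ^ ((Nat.card K).factorization p - 1)) :=
      Nat.Coprime.pow_right _ ((Nat.Prime.coprime_iff_not_dvd hp).2 hnd).symm
    exact hcop.dvd_of_dvd_mul_left hdvd
  refine ⟨hPn, hCP, ?_, hidx⟩
  intro _
  by_cases hp2 : p = 2
  · have h1 : (P : Subgroup K).index = 1 := by
      have h2 : p - 1 = 1 := by omega
      rw [h2] at hidx
      exact Nat.dvd_one.mp hidx
    have h2 : Nat.card (K ⧸ (P : Subgroup K)) = 1 := by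
      rw [← Subgroup.index_eq_card]; exact h1
    haveI : Subsingleton (K ⧸ (P : Subgroup K)) := (Nat.card_eq_one_iff_unique.mp h2).1
    exact isCyclic_of_subsingleton
  · haveI : IsCyclic (ZMod (Nat.card ↥(P : Subgroup K)))ˣ := by
      rw [hcardP]
      exact ZMod.isCyclic_units_of_prime_pow p hp hp2 _
    haveI : IsCyclic (MulAut ↥(P : Subgroup K)) :=
      isCyclic_of_injective (IsCyclic.mulAutMulEquiv ↥(P : Subgroup K)).toMonoidHom
        (IsCyclic.mulAutMulEquiv ↥(P : Subgroup K)).injective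
    exact isCyclic_of_injective ψ hinj

/-- Case `O_p(K) = 1`: `F*(K)` is non-abelian simple of index prime to `p`. -/
theorem h24_cyclic_sylow_case_two {K : Type u} [Group K] [Finite K] (p : ℕ) [Fact p.Prime]
    (hpK : p ∣ Nat.card K) (hO : Cfsg.pPrimeCore p K = ⊥) (P : Sylow p K)
    (hcyc : IsCyclic ↥(P : Subgroup K)) (hQ : Cfsg.pCore p K = ⊥) :
    IsSimpleGroup ↥(Cfsg.generalizedFittingSubgroup K) ∧
      ¬ IsMulCommutative ↥(Cfsg.generalizedFittingSubgroup K) ∧
      ¬ p ∣ (Cfsg.generalizedFittingSubgroup K).index := by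
  have hp : p.Prime := Fact.out
  have hF : Cfsg.fittingSubgroup K = ⊥ := by rw [h24_fitting_eq_pCore p hO, hQ]
  have gF : Cfsg.generalizedFittingSubgroup K = Cfsg.layer K := by
    unfold Cfsg.generalizedFittingSubgroup
    rw [hF, sup_bot_eq]
  have hPc : ∀ a ∈ (P : Subgroup K), ∀ b ∈ (P : Subgroup K), a * b = b * a := by
    intro a ha b hb
    have := (inferInstance : IsMulCommutative ↥(P : Subgroup K)).is_comm.comm ⟨a, ha⟩ ⟨b, hb⟩
    exact congrArg Subtype.val this
  have hne : Cfsg.layer K ≠ ⊥ := by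
    intro h
    have hc := Cfsg.Agent.Helper10.centralizer_gfitting_le K
    rw [gF, h] at hc
    have htop : Subgroup.centralizer (((⊥ : Subgroup K) : Subgroup K) : Set K) = ⊤ := by
      ext x
      simp [Subgroup.mem_centralizer_iff]
    rw [htop] at hc
    have hK : Nat.card K = 1 := by
      haveI hsub : Subsingleton K := ⟨fun a b => by
        have ha := hc (Subgroup.mem_top a)
        have hb := hc (Subgroup.mem_top b)
        rw [Subgroup.mem_bot] at ha hb
        rw [ha, hb]⟩
      exact Nat.card_of_subsingleton 1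
    rw [hK] at hpK
    exact hp.one_lt.ne' (Nat.dvd_one.mp hpK)
  obtain ⟨L, hL⟩ : ∃ L : Subgroup K, Cfsg.IsComponent L := by
    by_contra hno
    push Not at hno
    apply hne
    unfold Cfsg.layer
    rw [eq_bot_iff]
    apply sSup_le
    intro L hL
    exact absurd hL (hno L)
  have huniq : ∀ L' : Subgroup K, Cfsg.IsComponent L' → L' = L := by
    intro L' hL'
    rcases Cfsg.Agent.Helper10.comp_eq_or_comm hL' hL with h | h
    · exact h
    · exfalso
      have hne' := h24_cyc_inf_ne_bot (P : Subgroup K) P.2 ((P : Subgroup K) ⊓ L')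
        ((P : Subgroup K) ⊓ L) inf_le_left inf_le_left
        (h24_sylow_inf_comp_ne_bot p hO P L' hL') (h24_sylow_inf_comp_ne_bot p hO P L hL)
      apply hne'
      rw [eq_bot_iff]
      rintro z ⟨⟨hzP, hzL'⟩, -, hzL⟩
      rw [Subgroup.mem_bot]
      apply h24_comp_central_eq_one p P hPc L hL z hzP hzL
      intro y hy
      have hmem : ⁅z, y⁆ ∈ ⁅L', L⁆ := Subgroup.commutator_mem_commutator hzL' hy
      rw [h, Subgroup.mem_bot] at hmem
      exact (commutatorElement_eq_one_iff_mul_comm.mp hmem).symm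
  have hlayer : Cfsg.layer K = L := by
    unfold Cfsg.layer
    exact le_antisymm (sSup_le (fun L' hL' => (huniq L' hL').le)) (le_sSup hL)
  have hLn : L.Normal := hlayer ▸ Cfsg.Agent.Helper10.layer_normal K
  have hcenter : Subgroup.center ↥L = ⊥ := by
    rw [eq_bot_iff]
    intro z hz
    rw [Subgroup.mem_bot]
    have hzF : (z : K) ∈ Cfsg.fittingSubgroup K := by
      apply Cfsg.Agent.Helper10.center_layer_mem_fitting (by rw [hlayer]; exact z.2)
      intro e he
      rw [hlayer] at he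
      have := Subgroup.mem_center_iff.mp hz ⟨e, he⟩
      exact congrArg Subtype.val this
    rw [hF, Subgroup.mem_bot] at hzF
    exact Subtype.ext hzF
  have hLsimple : IsSimpleGroup ↥L := by
    haveI := hL.2.2
    let e : ↥L ⧸ Subgroup.center ↥L ≃* ↥L :=
      (QuotientGroup.quotientMulEquivOfEq hcenter).trans QuotientGroup.quotientBot
    exact e.symm.isSimpleGroup
  have hLnc : ¬ ∀ a b : L, a * b = b * a := Cfsg.Agent.Helper10.qs_not_comm hL.2
  have hpL : p ∣ Nat.card L := by
    by_contra hnd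
    exact Cfsg.Agent.Helper10.comp_ne_bot hL (h24_subnormal_pprime_eq_bot p hO L hL.1 hnd)
  have hPL : (P : Subgroup K) ≤ L := h24_cyclic_sylow_le_simple p L P hcyc hLsimple hLnc hpL
  rw [gF, hlayer]
  refine ⟨hLsimple, fun h => hLnc (fun a b => h.is_comm.comm a b), ?_⟩
  intro hdvd
  exact Sylow.not_dvd_index P (hdvd.trans (Subgroup.index_dvd_of_le hPL))

end Cfsg.Agent.Helper24
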