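import Mathlib
import Cfsg.Prelude.Def_Solvable

set_option autoImplicit false

namespace Cfsg.Agent.Helper24

open scoped commutatorElement Pointwise

set_option linter.unusedSectionVars false
set_option linter.style.haveILetI false

/-! Groups containing an element `x` of prime order `p` with `C_G(x) = ⟨x⟩`. -/

theorem sc_mem_smul_sylow_iff {G : Type*} [Group G] (p : ℕ) (g x : G) (P : Sylow p G) :
    x ∈ g • P ↔ g⁻¹ * x * g ∈ P := by
  have h : x ∈ ((g • P : Sylow p G) : Subgroup G) ↔ g⁻¹ * x * g ∈ (P : Subgroup G) := by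
    rw [Sylow.coe_subgroup_smul, Subgroup.mem_pointwise_smul_iff_inv_smul_mem]
    simp [MulAut.smul_def]
  exact h

section

variable {G : Type*} [Group G] [Finite G] {p : ℕ} {x : G}

theorem sc_card (hx : orderOf x = p) : Nat.card (Subgroup.zpowers x) = p := by
  rw [Nat.card_zpowers, hx]

theorem sc_x_ne_one (hp : p.Prime) (hx : orderOf x = p) : x ≠ 1 := by
  rintro rfl
  rw [orderOf_one] at hx
  exact hp.ne_one hx.symm

theorem sc_zpowers_eq (hp : p.Prime) (hx : orderOf x = p) {y : G}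
    (hy : y ∈ Subgroup.zpowers x) (hy1 : y ≠ 1) : Subgroup.zpowers y = Subgroup.zpowers x := by
  have hle : Subgroup.zpowers y ≤ Subgroup.zpowers x := Subgroup.zpowers_le.2 hy
  apply Subgroup.eq_of_le_of_card_ge hle
  rw [sc_card hx, Nat.card_zpowers]
  have hdvd : orderOf y ∣ p := by
    have h0 := Subgroup.card_dvd_of_le hle
    rwa [sc_card hx, Nat.card_zpowers] at h0
  rcases (Nat.dvd_prime hp).1 hdvd with h | h
  · exact absurd (orderOf_eq_one_iff.1 h) hy1
  · exact h.ge

theorem sc_orderOf (hp : p.Prime) (hx : orderOf x = p) {y : G}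
    (hy : y ∈ Subgroup.zpowers x) (hy1 : y ≠ 1) : orderOf y = p := by
  rw [← Nat.card_zpowers, sc_zpowers_eq hp hx hy hy1, sc_card hx]

theorem sc_centralizer_eq (hp : p.Prime) (hx : orderOf x = p)
    (hC : Subgroup.centralizer ({x} : Set G) = Subgroup.zpowers x) {y : G}
    (hy : y ∈ Subgroup.zpowers x) (hy1 : y ≠ 1) :
    Subgroup.centralizer ({y} : Set G) = Subgroup.zpowers x := by
  have hxy : x ∈ Subgroup.zpowers y := by
    rw [sc_zpowers_eq hp hx hy hy1]; exact Subgroup.mem_zpowers x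
  apply le_antisymm
  · intro g hg
    rw [← hC, Subgroup.mem_centralizer_singleton_iff]
    rw [Subgroup.mem_centralizer_singleton_iff] at hg
    obtain ⟨k, rfl⟩ := Subgroup.mem_zpowers_iff.1 hxy
    have hc : Commute g y := hg
    exact (hc.zpow_right k).eq
  · intro g hg
    rw [Subgroup.mem_centralizer_singleton_iff]
    obtain ⟨k, rfl⟩ := Subgroup.mem_zpowers_iff.1 hg
    obtain ⟨l, rfl⟩ := Subgroup.mem_zpowers_iff.1 hy
    exact (Commute.zpow_zpow_self x k l).eq

theorem sc_exists_sylow (hp : p.Prime) (hx : orderOf x = p)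
    (hC : Subgroup.centralizer ({x} : Set G) = Subgroup.zpowers x) :
    ∃ Q : Sylow p G, (Q : Subgroup G) = Subgroup.zpowers x := by
  haveI : Fact p.Prime := ⟨hp⟩
  have hX : IsPGroup p (Subgroup.zpowers x) :=
    IsPGroup.of_card (n := 1) (by rw [sc_card hx, pow_one])
  obtain ⟨Q, hQ⟩ := hX.exists_le_sylow
  refine ⟨Q, ?_⟩
  have hxQ : x ∈ (Q : Subgroup G) := hQ (Subgroup.mem_zpowers x)
  haveI : Nontrivial (Q : Subgroup G) :=
    ⟨⟨⟨x, hxQ⟩, 1, fun h => sc_x_ne_one hp hx (congrArg Subtype.val h)⟩⟩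
  have hc : Nontrivial (Subgroup.center (Q : Subgroup G)) := Q.2.center_nontrivial
  obtain ⟨⟨z, hz⟩, hz1⟩ := exists_ne (1 : Subgroup.center (Q : Subgroup G))
  have hz1' : (z : G) ≠ 1 := fun h => hz1 (Subtype.ext (Subtype.ext h))
  have hzx : (z : G) ∈ Subgroup.zpowers x := by
    rw [← hC, Subgroup.mem_centralizer_singleton_iff]
    have h0 := Subgroup.mem_center_iff.1 hz ⟨x, hxQ⟩
    have h1 := congrArg Subtype.val h0
    simpa using h1.symm
  have hcz := sc_centralizer_eq hp hx hC hzx hz1'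
  apply le_antisymm _ hQ
  intro g hg
  rw [← hcz, Subgroup.mem_centralizer_singleton_iff]
  have h0 := Subgroup.mem_center_iff.1 hz ⟨g, hg⟩
  have h1 := congrArg Subtype.val h0
  simpa using h1

theorem sc_sylow_card (hp : p.Prime) (hx : orderOf x = p)
    (hC : Subgroup.centralizer ({x} : Set G) = Subgroup.zpowers x) (Q : Sylow p G) :
    Nat.card (Q : Subgroup G) = p := by
  haveI : Fact p.Prime := ⟨hp⟩
  obtain ⟨Q0, hQ0⟩ := sc_exists_sylow hp hx hC
  have h1 : Nat.card (Q : Subgroup G) = Nat.card (Q0 : Subgroup G) := by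
    have a := Sylow.card_eq_multiplicity Q
    have b := Sylow.card_eq_multiplicity Q0
    exact a.trans b.symm
  rw [h1, hQ0]
  exact sc_card hx

theorem sc_exists_conj (hp : p.Prime) (hx : orderOf x = p)
    (hC : Subgroup.centralizer ({x} : Set G) = Subgroup.zpowers x) {y : G} (hy : orderOf y = p) :
    ∃ g : G, g * y * g⁻¹ ∈ Subgroup.zpowers x := by
  haveI : Fact p.Prime := ⟨hp⟩
  obtain ⟨Q0, hQ0⟩ := sc_exists_sylow hp hx hC
  have hY : IsPGroup p (Subgroup.zpowers y) :=
    IsPGroup.of_card (n := 1) (by rw [Nat.card_zpowers, hy, pow_one])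
  obtain ⟨Q, hQ⟩ := hY.exists_le_sylow
  obtain ⟨g, hg⟩ := MulAction.exists_smul_eq G Q Q0
  refine ⟨g, ?_⟩
  rw [← hQ0, ← hg]
  have h2 : g * y * g⁻¹ ∈ g • Q := by
    rw [sc_mem_smul_sylow_iff]
    have h1 : g⁻¹ * (g * y * g⁻¹) * g = y := by group
    rw [h1]; exact hQ (Subgroup.mem_zpowers y)
  exact h2

theorem sc_le_of_normal (hp : p.Prime) (hx : orderOf x = p)
    (hC : Subgroup.centralizer ({x} : Set G) = Subgroup.zpowers x)
    (S : Subgroup G) [hS : S.Normal] (h : p ∣ Nat.card S) : Subgroup.zpowers x ≤ S := by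
  haveI : Fact p.Prime := ⟨hp⟩
  obtain ⟨y, hy⟩ := exists_prime_orderOf_dvd_card' p h
  have hy' : orderOf (y : G) = p := by rw [Subgroup.orderOf_coe]; exact hy
  obtain ⟨g, hg⟩ := sc_exists_conj hp hx hC hy'
  have hne : g * (y : G) * g⁻¹ ≠ 1 := by
    intro h1
    have h2 : (y : G) = 1 := by
      have h3 : (y : G) = g⁻¹ * (g * (y : G) * g⁻¹) * g := by group
      rw [h3, h1]; group
    rw [h2, orderOf_one] at hy'
    exact hp.ne_one hy'.symm
  rw [← sc_zpowers_eq hp hx hg hne, Subgroup.zpowers_le]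
  exact hS.conj_mem _ y.2 g

theorem sc_comm_mem_aux (hC : Subgroup.centralizer ({x} : Set G) = Subgroup.zpowers x) {n m : G}
    (hn : n ∈ Subgroup.normalizer ((Subgroup.zpowers x : Subgroup G) : Set G))
    (hm : m ∈ Subgroup.normalizer ((Subgroup.zpowers x : Subgroup G) : Set G)) :
    n⁻¹ * m⁻¹ * n * m ∈ Subgroup.zpowers x := by
  obtain ⟨a, ha⟩ := Subgroup.mem_zpowers_iff.1
    ((Subgroup.mem_normalizer_iff.1 hn x).1 (Subgroup.mem_zpowers x))
  obtain ⟨b, hb⟩ := Subgroup.mem_zpowers_iff.1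
    ((Subgroup.mem_normalizer_iff.1 hm x).1 (Subgroup.mem_zpowers x))
  have h1 : (n * m) * x * (n * m)⁻¹ = x ^ (a * b) := by
    calc (n * m) * x * (n * m)⁻¹ = n * (m * x * m⁻¹) * n⁻¹ := by group
      _ = n * x ^ b * n⁻¹ := by rw [hb]
      _ = (n * x * n⁻¹) ^ b := by rw [conj_zpow]
      _ = (x ^ a) ^ b := by rw [ha]
      _ = x ^ (a * b) := by rw [zpow_mul]
  have h2 : (m * n) * x * (m * n)⁻¹ = x ^ (a * b) := by
    calc (m * n) * x * (m * n)⁻¹ = m * (n * x * n⁻¹) * m⁻¹ := by group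
      _ = m * x ^ a * m⁻¹ := by rw [ha]
      _ = (m * x * m⁻¹) ^ a := by rw [conj_zpow]
      _ = (x ^ b) ^ a := by rw [hb]
      _ = x ^ (a * b) := by rw [← zpow_mul, mul_comm]
  rw [← hC, Subgroup.mem_centralizer_singleton_iff]
  have h3 := h1.trans h2.symm
  have h4 : n⁻¹ * m⁻¹ * n * m * x = (m * n)⁻¹ * ((n * m) * x * (n * m)⁻¹) * (n * m) := by group
  rw [h4, h3]; group

theorem sc_comm_mem (hC : Subgroup.centralizer ({x} : Set G) = Subgroup.zpowers x) {n m : G}
    (hn : n ∈ Subgroup.normalizer ((Subgroup.zpowers x : Subgroup G) : Set G))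
    (hm : m ∈ Subgroup.normalizer ((Subgroup.zpowers x : Subgroup G) : Set G)) :
    n * m * n⁻¹ * m⁻¹ ∈ Subgroup.zpowers x := by
  have h := sc_comm_mem_aux hC (inv_mem hn) (inv_mem hm)
  simpa using h

theorem sc_frattini (hp : p.Prime) (hx : orderOf x = p)
    (hC : Subgroup.centralizer ({x} : Set G) = Subgroup.zpowers x)
    (S : Subgroup G) [S.Normal] (h : Subgroup.zpowers x ≤ S) :
    Subgroup.normalizer ((Subgroup.zpowers x : Subgroup G) : Set G) ⊔ S = ⊤ := by
  haveI : Fact p.Prime := ⟨hp⟩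
  obtain ⟨Q0, hQ0⟩ := sc_exists_sylow hp hx hC
  have hQS : (Q0 : Subgroup G) ≤ S := hQ0 ▸ h
  have h1 := Sylow.normalizer_sup_eq_top' Q0 hQS
  rw [← hQ0]
  exact h1

theorem sc_frattini_mem (hp : p.Prime) (hx : orderOf x = p)
    (hC : Subgroup.centralizer ({x} : Set G) = Subgroup.zpowers x)
    (S : Subgroup G) [S.Normal] (h : Subgroup.zpowers x ≤ S) (g : G) :
    ∃ n ∈ Subgroup.normalizer ((Subgroup.zpowers x : Subgroup G) : Set G), ∃ s ∈ S, g = n * s := by
  have h1 := sc_frattini hp hx hC S h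
  have hg : g ∈ (Subgroup.normalizer ((Subgroup.zpowers x : Subgroup G) : Set G) ⊔ S : Subgroup G) := by
    rw [h1]; exact Subgroup.mem_top g
  have h3 := Subgroup.mul_normal (Subgroup.normalizer ((Subgroup.zpowers x : Subgroup G) : Set G)) S
  have hg' : g ∈ ((Subgroup.normalizer ((Subgroup.zpowers x : Subgroup G) : Set G) : Set G)
      * (S : Set G)) := by
    rw [← h3]; exact hg
  obtain ⟨n, hn, s, hs, rfl⟩ := Set.mem_mul.1 hg'
  exact ⟨n, hn, s, hs, rfl⟩

theorem sc_commutator_le (hp : p.Prime) (hx : orderOf x = p)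
    (hC : Subgroup.centralizer ({x} : Set G) = Subgroup.zpowers x)
    (S : Subgroup G) [S.Normal] (h : Subgroup.zpowers x ≤ S) : commutator G ≤ S := by
  rw [commutator_def, Subgroup.commutator_le]
  intro g _ k _
  obtain ⟨n, hn, s, hs, rfl⟩ := sc_frattini_mem hp hx hC S h g
  obtain ⟨m, hm, u, hu, rfl⟩ := sc_frattini_mem hp hx hC S h k
  rw [commutatorElement_def, ← QuotientGroup.eq_one_iff]
  have hs1 : ((s : G) : G ⧸ S) = 1 := (QuotientGroup.eq_one_iff s).2 hs
  have hu1 : ((u : G) : G ⧸ S) = 1 := (QuotientGroup.eq_one_iff u).2 hu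
  have hnm : ((n * m * n⁻¹ * m⁻¹ : G) : G ⧸ S) = 1 :=
    (QuotientGroup.eq_one_iff _).2 (h (sc_comm_mem hC hn hm))
  simp only [QuotientGroup.mk_mul, QuotientGroup.mk_inv, hs1, hu1, mul_one] at hnm ⊢
  exact hnm

theorem sc_inf_eq_bot (hp : p.Prime) (hx : orderOf x = p)
    (S : Subgroup G) (h : ¬ p ∣ Nat.card S) : S ⊓ Subgroup.zpowers x = ⊥ := by
  rw [← Subgroup.card_eq_one]
  have h1 : Nat.card (S ⊓ Subgroup.zpowers x : Subgroup G) ∣ Nat.card S :=
    Subgroup.card_dvd_of_le inf_le_left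
  have h2 : Nat.card (S ⊓ Subgroup.zpowers x : Subgroup G) ∣ p := by
    have h0 := Subgroup.card_dvd_of_le (inf_le_right : S ⊓ Subgroup.zpowers x ≤ Subgroup.zpowers x)
    rwa [sc_card hx] at h0
  rcases (Nat.dvd_prime hp).1 h2 with h3 | h3
  · exact h3
  · rw [h3] at h1; exact absurd h1 h

theorem sc_comm_surj (hp : p.Prime) (hx : orderOf x = p)
    (hC : Subgroup.centralizer ({x} : Set G) = Subgroup.zpowers x)
    (S : Subgroup G) [hS : S.Normal] (h : ¬ p ∣ Nat.card S) {u : G} (hu : u ∈ S) :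
    ∃ s ∈ S, s * x * s⁻¹ * x⁻¹ = u := by
  have hbot := sc_inf_eq_bot hp hx S h
  let f : ↥S → ↥S := fun s => ⟨(s : G) * x * (s : G)⁻¹ * x⁻¹, by
    have h1 : x * (s : G)⁻¹ * x⁻¹ ∈ S := hS.conj_mem _ (S.inv_mem s.2) x
    have h2 : (s : G) * x * (s : G)⁻¹ * x⁻¹ = (s : G) * (x * (s : G)⁻¹ * x⁻¹) := by group
    rw [h2]; exact S.mul_mem s.2 h1⟩
  have hf : Function.Injective f := by
    intro s s' hss
    have h1 : (s : G) * x * (s : G)⁻¹ * x⁻¹ = (s' : G) * x * (s' : G)⁻¹ * x⁻¹ :=
      congrArg Subtype.val hss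
    have h3 : (s : G) * x * (s : G)⁻¹ = (s' : G) * x * (s' : G)⁻¹ := mul_right_cancel h1
    have h2 : (s' : G)⁻¹ * (s : G) ∈ Subgroup.centralizer ({x} : Set G) := by
      rw [Subgroup.mem_centralizer_singleton_iff]
      have h4 : (s' : G)⁻¹ * (s : G) * x = (s' : G)⁻¹ * ((s : G) * x * (s : G)⁻¹) * (s : G) := by
        group
      rw [h4, h3]; group
    rw [hC] at h2
    have h4 : (s' : G)⁻¹ * (s : G) ∈ S ⊓ Subgroup.zpowers x :=
      ⟨S.mul_mem (S.inv_mem s'.2) s.2, h2⟩
    rw [hbot, Subgroup.mem_bot] at h4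
    exact Subtype.ext (inv_mul_eq_one.1 h4).symm
  obtain ⟨s, hs⟩ := Finite.surjective_of_injective hf ⟨u, hu⟩
  exact ⟨s, s.2, congrArg Subtype.val hs⟩

theorem sc_le_commutator (hp : p.Prime) (hx : orderOf x = p)
    (hC : Subgroup.centralizer ({x} : Set G) = Subgroup.zpowers x)
    (S : Subgroup G) [hS : S.Normal] (h : ¬ p ∣ Nat.card S) : S ≤ commutator G := by
  intro u hu
  obtain ⟨s, hs, rfl⟩ := sc_comm_surj hp hx hC S h hu
  have h1 : s * x * s⁻¹ * x⁻¹ = ⁅s, x⁆ := (commutatorElement_def s x).symm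
  rw [h1, commutator_def]
  exact Subgroup.commutator_mem_commutator (Subgroup.mem_top s) (Subgroup.mem_top x)

theorem sc_mem_of_comm_mem (hp : p.Prime) (hx : orderOf x = p)
    (hC : Subgroup.centralizer ({x} : Set G) = Subgroup.zpowers x)
    (S : Subgroup G) [hS : S.Normal] (h : ¬ p ∣ Nat.card S) {g : G}
    (hg : g * x * g⁻¹ * x⁻¹ ∈ S) : ∃ s ∈ S, ∃ k ∈ Subgroup.zpowers x, g = s * k := by
  obtain ⟨s, hs, hsg⟩ := sc_comm_surj hp hx hC S h hg
  have h3 : s * x * s⁻¹ = g * x * g⁻¹ := mul_right_cancel hsg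
  have h2 : s⁻¹ * g ∈ Subgroup.centralizer ({x} : Set G) := by
    rw [Subgroup.mem_centralizer_singleton_iff]
    have h4 : s⁻¹ * g * x = s⁻¹ * (g * x * g⁻¹) * g := by group
    rw [h4, ← h3]; group
  rw [hC] at h2
  exact ⟨s, hs, s⁻¹ * g, h2, by group⟩

theorem sc_inf_normalizer (hp : p.Prime) (hx : orderOf x = p)
    (hC : Subgroup.centralizer ({x} : Set G) = Subgroup.zpowers x)
    (S : Subgroup G) [hS : S.Normal] (h : ¬ p ∣ Nat.card S) :
    S ⊓ Subgroup.normalizer ((Subgroup.zpowers x : Subgroup G) : Set G) = ⊥ := by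
  have hbot := sc_inf_eq_bot hp hx S h
  rw [eq_bot_iff]
  rintro s ⟨hs, hn⟩
  have h1 : s * x * s⁻¹ ∈ Subgroup.zpowers x :=
    (Subgroup.mem_normalizer_iff.1 hn x).1 (Subgroup.mem_zpowers x)
  have h2 : s * x * s⁻¹ * x⁻¹ ∈ S ⊓ Subgroup.zpowers x := by
    refine ⟨?_, (Subgroup.zpowers x).mul_mem h1 ((Subgroup.zpowers x).inv_mem (Subgroup.mem_zpowers x))⟩
    have h3 : x * s⁻¹ * x⁻¹ ∈ S := hS.conj_mem _ (S.inv_mem hs) x
    have h4 : s * x * s⁻¹ * x⁻¹ = s * (x * s⁻¹ * x⁻¹) := by group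
    rw [h4]; exact S.mul_mem hs h3
  rw [hbot, Subgroup.mem_bot] at h2
  have h3 : s ∈ Subgroup.centralizer ({x} : Set G) := by
    rw [Subgroup.mem_centralizer_singleton_iff]
    have h4 : s * x = (s * x * s⁻¹ * x⁻¹) * (x * s) := by group
    rw [h4, h2, one_mul]
  rw [hC] at h3
  have h4 : s ∈ S ⊓ Subgroup.zpowers x := ⟨hs, h3⟩
  rw [hbot] at h4
  exact h4

theorem sc_index_normalizer (hp : p.Prime) (hx : orderOf x = p)
    (hC : Subgroup.centralizer ({x} : Set G) = Subgroup.zpowers x)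
    (S : Subgroup G) [hS : S.Normal] (h : ¬ p ∣ Nat.card S) :
    (Subgroup.normalizer ((Subgroup.zpowers x : Subgroup G) : Set G)).index
      = Nat.card S * (Subgroup.normalizer ((Subgroup.zpowers x : Subgroup G) : Set G) ⊔ S).index := by
  have hbot := sc_inf_normalizer hp hx hC S h
  generalize Subgroup.normalizer ((Subgroup.zpowers x : Subgroup G) : Set G) = N at hbot ⊢
  have h1 : S.relIndex (N ⊔ S) = Nat.card N := by
    rw [Subgroup.relIndex_sup_right, ← Subgroup.inf_relIndex_right, hbot, Subgroup.relIndex_bot_left]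
  have e1 : (⊥ : Subgroup G).relIndex S = Nat.card S := Subgroup.relIndex_bot_left S
  have e2 : (⊥ : Subgroup G).relIndex N = Nat.card N := Subgroup.relIndex_bot_left N
  have e3 : (⊥ : Subgroup G).relIndex (N ⊔ S) = Nat.card (N ⊔ S : Subgroup G) :=
    Subgroup.relIndex_bot_left (N ⊔ S)
  have h2 : Nat.card S * S.relIndex (N ⊔ S) = Nat.card (N ⊔ S : Subgroup G) := by
    rw [← e1, ← e3]
    exact Subgroup.relIndex_mul_relIndex _ _ _ bot_le le_sup_right
  have h3 : Nat.card N * N.relIndex (N ⊔ S) = Nat.card (N ⊔ S : Subgroup G) := by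
    rw [← e2, ← e3]
    exact Subgroup.relIndex_mul_relIndex _ _ _ bot_le le_sup_left
  have h4 : N.relIndex (N ⊔ S) = Nat.card S := by
    have hpos : 0 < Nat.card N := Nat.card_pos
    rw [h1] at h2
    have h5 : Nat.card N * N.relIndex (N ⊔ S) = Nat.card N * Nat.card S := by
      rw [h3, ← h2, mul_comm]
    exact Nat.eq_of_mul_eq_mul_left hpos h5
  rw [← Subgroup.relIndex_mul_index (le_sup_left : N ≤ N ⊔ S), h4]

theorem sc_card_subgroups (hp : p.Prime) (hx : orderOf x = p)
    (hC : Subgroup.centralizer ({x} : Set G) = Subgroup.zpowers x) :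
    Nat.card {H : Subgroup G // Nat.card H = p} = Nat.card (Sylow p G) := by
  haveI : Fact p.Prime := ⟨hp⟩
  symm
  apply Nat.card_eq_of_bijective (fun Q : Sylow p G =>
    (⟨(Q : Subgroup G), sc_sylow_card hp hx hC Q⟩ : {H : Subgroup G // Nat.card H = p}))
  constructor
  · intro Q Q' h
    exact Sylow.ext (congrArg Subtype.val h)
  · rintro ⟨H, hH⟩
    have hH' : IsPGroup p H := IsPGroup.of_card (n := 1) (by rw [hH, pow_one])
    obtain ⟨Q, hQ⟩ := hH'.exists_le_sylow
    refine ⟨Q, Subtype.ext ?_⟩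
    symm
    apply Subgroup.eq_of_le_of_card_ge hQ
    rw [hH]; exact (sc_sylow_card hp hx hC Q).le

theorem sc_card_sylow (hp : p.Prime) (hx : orderOf x = p)
    (hC : Subgroup.centralizer ({x} : Set G) = Subgroup.zpowers x) :
    Nat.card (Sylow p G)
      = (Subgroup.normalizer ((Subgroup.zpowers x : Subgroup G) : Set G)).index := by
  haveI : Fact p.Prime := ⟨hp⟩
  obtain ⟨Q0, hQ0⟩ := sc_exists_sylow hp hx hC
  have h := Sylow.card_eq_index_normalizer Q0
  have h2 : (Subgroup.normalizer ((Q0 : Subgroup G) : Set G)).index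
      = (Subgroup.normalizer ((Subgroup.zpowers x : Subgroup G) : Set G)).index := by rw [hQ0]
  exact h.trans h2

theorem sc_mem_normalizer_of_conj (hp : p.Prime) (hx : orderOf x = p) {y k : G}
    (hy : y ∈ Subgroup.zpowers x) (hy1 : y ≠ 1) (hk : k * y * k⁻¹ ∈ Subgroup.zpowers x) :
    k ∈ Subgroup.normalizer ((Subgroup.zpowers x : Subgroup G) : Set G) := by
  have hne : k * y * k⁻¹ ≠ 1 := by
    intro h1
    apply hy1
    have h3 : y = k⁻¹ * (k * y * k⁻¹) * k := by group
    rw [h3, h1]; group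
  have e1 := sc_zpowers_eq hp hx hy hy1
  have e2 := sc_zpowers_eq hp hx hk hne
  rw [Subgroup.mem_normalizer_iff]
  intro h
  constructor
  · intro hh
    rw [← e1] at hh
    obtain ⟨j, rfl⟩ := Subgroup.mem_zpowers_iff.1 hh
    rw [← e2, ← conj_zpow]
    exact Subgroup.zpow_mem_zpowers _ j
  · intro hh
    rw [← e2] at hh
    obtain ⟨j, hj⟩ := Subgroup.mem_zpowers_iff.1 hh
    rw [conj_zpow] at hj
    have h3 : h = y ^ j := by
      have h4 : h = k⁻¹ * (k * h * k⁻¹) * k := by group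
      rw [h4, ← hj]; group
    rw [h3, ← e1]
    exact Subgroup.zpow_mem_zpowers _ j

theorem sc_card_nonidentity (hx : orderOf x = p) :
    Nat.card {y : G // y ∈ Subgroup.zpowers x ∧ y ≠ 1} = p - 1 := by
  have h1 : Nat.card {y : G // y ∈ Subgroup.zpowers x ∧ y ≠ 1}
      = Set.ncard (((Subgroup.zpowers x : Subgroup G) : Set G) \ {1}) := by
    rw [← Nat.card_coe_set_eq]
    apply Nat.card_congr
    exact Equiv.subtypeEquivRight (fun y => by simp)
  rw [h1, Set.ncard_sdiff_singleton_of_mem (Subgroup.one_mem _)]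
  have h2 : Set.ncard ((Subgroup.zpowers x : Subgroup G) : Set G) = p := by
    rw [← Nat.card_coe_set_eq]
    exact sc_card hx
  rw [h2]

theorem sc_class_count (hp : p.Prime) (hx : orderOf x = p)
    (hC : Subgroup.centralizer ({x} : Set G) = Subgroup.zpowers x) :
    Nat.card {C : ConjClasses G // ∃ g ∈ C.carrier, orderOf g = p}
      * (Subgroup.zpowers x).relIndex
          (Subgroup.normalizer ((Subgroup.zpowers x : Subgroup G) : Set G)) = p - 1 := by
  classical
  rw [← sc_card_nonidentity hx]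
  haveI : Fintype {C : ConjClasses G // ∃ g ∈ C.carrier, orderOf g = p} := Fintype.ofFinite _
  let φ : {y : G // y ∈ Subgroup.zpowers x ∧ y ≠ 1} →
      {C : ConjClasses G // ∃ g ∈ C.carrier, orderOf g = p} :=
    fun y => ⟨ConjClasses.mk (y : G), (y : G), ConjClasses.mem_carrier_mk,
      sc_orderOf hp hx y.2.1 y.2.2⟩
  have hfib : ∀ c : {C : ConjClasses G // ∃ g ∈ C.carrier, orderOf g = p},
      Nat.card {d : {y : G // y ∈ Subgroup.zpowers x ∧ y ≠ 1} // φ d = c}
        = (Subgroup.zpowers x).relIndex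
          (Subgroup.normalizer ((Subgroup.zpowers x : Subgroup G) : Set G)) := by
    rintro ⟨C, g, hg, hord⟩
    obtain ⟨h, hh⟩ := sc_exists_conj hp hx hC hord
    have hy01 : h * g * h⁻¹ ≠ 1 := by
      intro h1
      have h3 : g = h⁻¹ * (h * g * h⁻¹) * h := by group
      rw [h3, h1] at hord
      simp at hord
      exact hp.ne_one hord.symm
    have hCy0 : ConjClasses.mk (h * g * h⁻¹) = C := by
      rw [← ConjClasses.mem_carrier_iff_mk_eq.1 hg, ConjClasses.mk_eq_mk_iff_isConj, isConj_comm,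
        isConj_iff]
      exact ⟨h, rfl⟩
    generalize h * g * h⁻¹ = y0 at hh hy01 hCy0
    letI act : MulAction (↥(Subgroup.normalizer ((Subgroup.zpowers x : Subgroup G) : Set G))) G :=
      MulAction.compHom G ((MulAut.conj : G →* MulAut G).comp
        (Subgroup.normalizer ((Subgroup.zpowers x : Subgroup G) : Set G)).subtype)
    have hsmul : ∀ (n : ↥(Subgroup.normalizer ((Subgroup.zpowers x : Subgroup G) : Set G)))
        (y : G), n • y = (n : G) * y * (n : G)⁻¹ := fun n y => rfl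
    have hstab : MulAction.stabilizer
        (↥(Subgroup.normalizer ((Subgroup.zpowers x : Subgroup G) : Set G))) y0
        = (Subgroup.zpowers x).subgroupOf
          (Subgroup.normalizer ((Subgroup.zpowers x : Subgroup G) : Set G)) := by
      ext n
      have key : (n : G) ∈ Subgroup.zpowers x ↔ (n : G) ∈ Subgroup.centralizer ({y0} : Set G) := by
        rw [sc_centralizer_eq hp hx hC hh hy01]
      rw [MulAction.mem_stabilizer_iff, Subgroup.mem_subgroupOf, hsmul, key,
        Subgroup.mem_centralizer_singleton_iff]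
      constructor
      · intro h1
        have h2 : (n : G) * y0 = ((n : G) * y0 * (n : G)⁻¹) * (n : G) := by group
        rw [h2, h1]
      · intro h1
        rw [h1]; group
    have hidx := MulAction.index_stabilizer
      (G := ↥(Subgroup.normalizer ((Subgroup.zpowers x : Subgroup G) : Set G))) (x := y0)
    rw [hstab] at hidx
    have hrel : (Subgroup.zpowers x).relIndex
        (Subgroup.normalizer ((Subgroup.zpowers x : Subgroup G) : Set G))
        = ((Subgroup.zpowers x).subgroupOf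
          (Subgroup.normalizer ((Subgroup.zpowers x : Subgroup G) : Set G))).index := rfl
    rw [hrel, hidx]
    let f : {d : {y : G // y ∈ Subgroup.zpowers x ∧ y ≠ 1} // φ d = ⟨C, g, hg, hord⟩} → G :=
      fun d => ((d : {y : G // y ∈ Subgroup.zpowers x ∧ y ≠ 1}) : G)
    have hfinj : Function.Injective f := by
      intro d d' hdd
      exact Subtype.ext (Subtype.ext hdd)
    rw [← Nat.card_range_of_injective hfinj, Nat.card_coe_set_eq]
    congr 1
    ext y
    constructor
    · rintro ⟨⟨⟨y', hy'1, hy'2⟩, hd⟩, rfl⟩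
      have h1 : ConjClasses.mk y' = C := congrArg Subtype.val hd
      rw [← hCy0, ConjClasses.mk_eq_mk_iff_isConj, isConj_comm, isConj_iff] at h1
      obtain ⟨k, hk⟩ := h1
      have hkN : k ∈ Subgroup.normalizer ((Subgroup.zpowers x : Subgroup G) : Set G) :=
        sc_mem_normalizer_of_conj hp hx hh hy01 (hk ▸ hy'1)
      rw [MulAction.mem_orbit_iff]
      exact ⟨⟨k, hkN⟩, hk⟩
    · intro hy
      rw [MulAction.mem_orbit_iff] at hy
      obtain ⟨n, rfl⟩ := hy
      rw [hsmul]
      have hmem : (n : G) * y0 * (n : G)⁻¹ ∈ Subgroup.zpowers x :=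
        (Subgroup.mem_normalizer_iff.1 n.2 y0).1 hh
      have hne : (n : G) * y0 * (n : G)⁻¹ ≠ 1 := by
        intro h1
        apply hy01
        have h3 : y0 = (n : G)⁻¹ * ((n : G) * y0 * (n : G)⁻¹) * (n : G) := by group
        rw [h3, h1]; group
      refine ⟨⟨⟨(n : G) * y0 * (n : G)⁻¹, hmem, hne⟩, ?_⟩, rfl⟩
      apply Subtype.ext
      show ConjClasses.mk ((n : G) * y0 * (n : G)⁻¹) = C
      rw [← hCy0, ConjClasses.mk_eq_mk_iff_isConj, isConj_comm, isConj_iff]
      exact ⟨(n : G), rfl⟩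
  rw [Nat.card_congr (Equiv.sigmaFiberEquiv φ).symm, Nat.card_sigma]
  simp only [hfib, Finset.sum_const, Finset.card_univ, smul_eq_mul, Nat.card_eq_fintype_card]

theorem sc_relIndex_pos :
    0 < (Subgroup.zpowers x).relIndex
      (Subgroup.normalizer ((Subgroup.zpowers x : Subgroup G) : Set G)) := by
  have h : ((Subgroup.zpowers x).subgroupOf
      (Subgroup.normalizer ((Subgroup.zpowers x : Subgroup G) : Set G))).index ≠ 0 :=
    Subgroup.index_ne_zero_of_finite
  exact Nat.pos_of_ne_zero h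

theorem sc_normal_complement (hp : p.Prime) (hx : orderOf x = p)
    (hC : Subgroup.centralizer ({x} : Set G) = Subgroup.zpowers x)
    (hN : Subgroup.normalizer ((Subgroup.zpowers x : Subgroup G) : Set G) ≤ Subgroup.zpowers x) :
    ∃ K : Subgroup G, K.Normal ∧ ¬ p ∣ Nat.card K ∧ K.index = p := by
  haveI : Fact p.Prime := ⟨hp⟩
  obtain ⟨Q0, hQ0⟩ := sc_exists_sylow hp hx hC
  have hP : Subgroup.normalizer ((Q0 : Subgroup G) : Set G)
      ≤ Subgroup.centralizer ((Q0 : Subgroup G) : Set G) := by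
    rw [hQ0]
    refine hN.trans ?_
    intro g hg
    rw [Subgroup.mem_centralizer_iff]
    intro h hh
    obtain ⟨a, rfl⟩ := Subgroup.mem_zpowers_iff.1 hg
    obtain ⟨b, rfl⟩ := Subgroup.mem_zpowers_iff.1 hh
    exact (Commute.zpow_zpow_self x b a).eq
  have hcompl := MonoidHom.ker_transferSylow_isComplement' Q0 hP
  refine ⟨(MonoidHom.transferSylow Q0 hP).ker, inferInstance,
    MonoidHom.not_dvd_card_ker_transferSylow Q0 hP, ?_⟩
  have h1 := hcompl.symm.index_eq_card
  rw [h1]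
  exact sc_sylow_card hp hx hC Q0

theorem sc_card_mod (hp : p.Prime) (hx : orderOf x = p)
    (hC : Subgroup.centralizer ({x} : Set G) = Subgroup.zpowers x)
    (S : Subgroup G) [hS : S.Normal] (h : ¬ p ∣ Nat.card S) : Nat.card S % p = 1 := by
  haveI : Fact p.Prime := ⟨hp⟩
  have hbot := sc_inf_eq_bot hp hx S h
  letI act : MulAction (↥(Subgroup.zpowers x)) ↥S :=
    MulAction.compHom ↥S ((MulAut.conjNormal (H := S)).comp (Subgroup.zpowers x).subtype)
  have hsmul : ∀ (k : ↥(Subgroup.zpowers x)) (s : ↥S),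
      ((k • s : ↥S) : G) = (k : G) * s * (k : G)⁻¹ := fun k s => rfl
  have hX : IsPGroup p (↥(Subgroup.zpowers x)) :=
    IsPGroup.of_card (n := 1) (by rw [sc_card hx, pow_one])
  have hmod := hX.card_modEq_card_fixedPoints (↥S)
  have hfix : MulAction.fixedPoints (↥(Subgroup.zpowers x)) ↥S = {1} := by
    ext s
    rw [MulAction.mem_fixedPoints, Set.mem_singleton_iff]
    constructor
    · intro hs
      have h1 := hs ⟨x, Subgroup.mem_zpowers x⟩
      have h2 : x * (s : G) * x⁻¹ = (s : G) := by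
        have h0 := congrArg Subtype.val h1
        rw [hsmul] at h0
        exact h0
      have h3 : (s : G) ∈ Subgroup.centralizer ({x} : Set G) := by
        rw [Subgroup.mem_centralizer_singleton_iff]
        have h5 : (s : G) * x = (x * (s : G) * x⁻¹) * x := by rw [h2]
        rw [h5]; group
      rw [hC] at h3
      have h4 : (s : G) ∈ S ⊓ Subgroup.zpowers x := ⟨s.2, h3⟩
      rw [hbot, Subgroup.mem_bot] at h4
      exact Subtype.ext h4
    · rintro rfl k
      apply Subtype.ext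
      rw [hsmul]; simp
  rw [hfix] at hmod
  have h1 : Nat.card (({1} : Set ↥S)) = 1 := by simp
  rw [h1] at hmod
  have h2 := hmod
  rw [Nat.ModEq, Nat.mod_eq_of_lt hp.one_lt] at h2
  exact h2

theorem sc_orderOf_mk (hp : p.Prime) (hx : orderOf x = p)
    (S : Subgroup G) [hS : S.Normal] (h : ¬ p ∣ Nat.card S) :
    orderOf (QuotientGroup.mk x : G ⧸ S) = p := by
  haveI : Fact p.Prime := ⟨hp⟩
  have hbot := sc_inf_eq_bot hp hx S h
  apply orderOf_eq_prime
  · rw [← QuotientGroup.mk_pow, ← hx, pow_orderOf_eq_one]; rfl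
  · intro h1
    have h2 : x ∈ S := (QuotientGroup.eq_one_iff x).1 h1
    have h4 : x ∈ S ⊓ Subgroup.zpowers x := ⟨h2, Subgroup.mem_zpowers x⟩
    rw [hbot, Subgroup.mem_bot] at h4
    exact sc_x_ne_one hp hx h4

theorem sc_centralizer_mk (hp : p.Prime) (hx : orderOf x = p)
    (hC : Subgroup.centralizer ({x} : Set G) = Subgroup.zpowers x)
    (S : Subgroup G) [hS : S.Normal] (h : ¬ p ∣ Nat.card S) :
    Subgroup.centralizer ({(QuotientGroup.mk x : G ⧸ S)} : Set (G ⧸ S))
      = Subgroup.zpowers (QuotientGroup.mk x : G ⧸ S) := by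
  apply le_antisymm
  · intro γ hγ
    obtain ⟨g, rfl⟩ := QuotientGroup.mk_surjective γ
    rw [Subgroup.mem_centralizer_singleton_iff] at hγ
    have h1 : g * x * g⁻¹ * x⁻¹ ∈ S := by
      rw [← QuotientGroup.eq_one_iff]
      simp only [QuotientGroup.mk_mul, QuotientGroup.mk_inv]
      rw [hγ]; group
    obtain ⟨s, hs, k, hk, rfl⟩ := sc_mem_of_comm_mem hp hx hC S h h1
    obtain ⟨j, rfl⟩ := Subgroup.mem_zpowers_iff.1 hk
    rw [QuotientGroup.mk_mul, (QuotientGroup.eq_one_iff s).2 hs, one_mul, QuotientGroup.mk_zpow]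
    exact Subgroup.zpow_mem_zpowers _ j
  · rw [Subgroup.zpowers_le, Subgroup.mem_centralizer_singleton_iff]

theorem sc_commutator_le_of_prime_index (hp : p.Prime) (K : Subgroup G) [K.Normal]
    (hK : K.index = p) : commutator G ≤ K := by
  haveI : Fact p.Prime := ⟨hp⟩
  have hcard : Nat.card (G ⧸ K) = p := by rw [← Subgroup.index_eq_card]; exact hK
  haveI : IsCyclic (G ⧸ K) := isCyclic_of_prime_card hcard
  rw [commutator_def, Subgroup.commutator_le]
  intro g _ k _
  rw [commutatorElement_def, ← QuotientGroup.eq_one_iff]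
  simp only [QuotientGroup.mk_mul, QuotientGroup.mk_inv]
  rw [(IsCyclic.isMulCommutative (α := G ⧸ K)).is_comm.comm (g : G ⧸ K) (k : G ⧸ K)]
  group

theorem sc_zpowers_le_commutator (hp : p.Prime) (hx : orderOf x = p)
    (hC : Subgroup.centralizer ({x} : Set G) = Subgroup.zpowers x)
    (he : (Subgroup.zpowers x).relIndex
      (Subgroup.normalizer ((Subgroup.zpowers x : Subgroup G) : Set G)) ≠ 1) :
    Subgroup.zpowers x ≤ commutator G := by
  rw [Ne, Subgroup.relIndex_eq_one] at he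
  obtain ⟨n, hn, hnx⟩ := SetLike.not_le_iff_exists.1 he
  have h1 : n * x * n⁻¹ ∈ Subgroup.zpowers x :=
    (Subgroup.mem_normalizer_iff.1 hn x).1 (Subgroup.mem_zpowers x)
  have h2 : n * x * n⁻¹ * x⁻¹ ∈ Subgroup.zpowers x :=
    (Subgroup.zpowers x).mul_mem h1 ((Subgroup.zpowers x).inv_mem (Subgroup.mem_zpowers x))
  have h3 : n * x * n⁻¹ * x⁻¹ ≠ 1 := by
    intro h0
    apply hnx
    rw [← hC, Subgroup.mem_centralizer_singleton_iff]
    have h4 : n * x = (n * x * n⁻¹ * x⁻¹) * (x * n) := by group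
    rw [h4, h0, one_mul]
  rw [← sc_zpowers_eq hp hx h2 h3, Subgroup.zpowers_le]
  have h5 : n * x * n⁻¹ * x⁻¹ = ⁅n, x⁆ := (commutatorElement_def n x).symm
  rw [h5, commutator_def]
  exact Subgroup.commutator_mem_commutator (Subgroup.mem_top n) (Subgroup.mem_top x)

theorem sc_index_dvd (hp : p.Prime) (hx : orderOf x = p)
    (hC : Subgroup.centralizer ({x} : Set G) = Subgroup.zpowers x)
    (S : Subgroup G) [S.Normal] (h : Subgroup.zpowers x ≤ S) :
    S.index ∣ (Subgroup.zpowers x).relIndex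
      (Subgroup.normalizer ((Subgroup.zpowers x : Subgroup G) : Set G)) := by
  have h1 := sc_frattini hp hx hC S h
  have hXN : Subgroup.zpowers x ≤ Subgroup.normalizer ((Subgroup.zpowers x : Subgroup G) : Set G) :=
    Subgroup.le_normalizer
  generalize Subgroup.normalizer ((Subgroup.zpowers x : Subgroup G) : Set G) = N at h1 hXN ⊢
  have h2 : S.index = S.relIndex N := by
    rw [← Subgroup.relIndex_sup_right N S, h1, Subgroup.relIndex_top_right]
  have h3 : (Subgroup.zpowers x).relIndex (S ⊓ N) * (S ⊓ N).relIndex N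
      = (Subgroup.zpowers x).relIndex N :=
    Subgroup.relIndex_mul_relIndex _ _ _ (le_inf h hXN) inf_le_right
  rw [h2, ← Subgroup.inf_relIndex_right, ← h3]
  exact dvd_mul_left _ _

theorem sc_comm_of_e_one (hp : p.Prime) (hx : orderOf x = p)
    (hC : Subgroup.centralizer ({x} : Set G) = Subgroup.zpowers x)
    (hN : Subgroup.normalizer ((Subgroup.zpowers x : Subgroup G) : Set G) ≤ Subgroup.zpowers x) :
    ¬ p ∣ Nat.card (commutator G) ∧ (commutator G).index = p := by
  obtain ⟨K, hKn, hKp, hKi⟩ := sc_normal_complement hp hx hC hN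
  haveI := hKn
  have h1 : K ≤ commutator G := sc_le_commutator hp hx hC K hKp
  have h2 : commutator G ≤ K := sc_commutator_le_of_prime_index hp K hKi
  rw [le_antisymm h2 h1]
  exact ⟨hKp, hKi⟩

theorem sc_subtype_orderOf (hx : orderOf x = p) (H : Subgroup G) (hxH : x ∈ H) :
    orderOf (⟨x, hxH⟩ : ↥H) = p := by
  rw [← Subgroup.orderOf_coe]; exact hx

theorem sc_subtype_centralizer (hC : Subgroup.centralizer ({x} : Set G) = Subgroup.zpowers x)
    (H : Subgroup G) (hxH : x ∈ H) :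
    Subgroup.centralizer ({(⟨x, hxH⟩ : ↥H)} : Set ↥H) = Subgroup.zpowers (⟨x, hxH⟩ : ↥H) := by
  ext h
  rw [Subgroup.mem_centralizer_singleton_iff]
  constructor
  · intro h1
    have h2 : (h : G) ∈ Subgroup.centralizer ({x} : Set G) := by
      rw [Subgroup.mem_centralizer_singleton_iff]
      exact congrArg Subtype.val h1
    rw [hC] at h2
    obtain ⟨j, hj⟩ := Subgroup.mem_zpowers_iff.1 h2
    rw [Subgroup.mem_zpowers_iff]
    exact ⟨j, Subtype.ext (by simpa using hj)⟩
  · intro h1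
    obtain ⟨j, rfl⟩ := Subgroup.mem_zpowers_iff.1 h1
    exact (Commute.zpow_self _ j).eq

theorem sc_card_sup (hp : p.Prime) (hx : orderOf x = p) (D : Subgroup G) [D.Normal]
    (h : ¬ p ∣ Nat.card D) :
    Nat.card (Subgroup.zpowers x ⊔ D : Subgroup G) = Nat.card D * p := by
  have hbot := sc_inf_eq_bot hp hx D h
  have e1 : (⊥ : Subgroup G).relIndex D = Nat.card D := Subgroup.relIndex_bot_left D
  have e3 : (⊥ : Subgroup G).relIndex (Subgroup.zpowers x ⊔ D)
      = Nat.card (Subgroup.zpowers x ⊔ D : Subgroup G) := Subgroup.relIndex_bot_left _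
  have h2 : Nat.card D * D.relIndex (Subgroup.zpowers x ⊔ D)
      = Nat.card (Subgroup.zpowers x ⊔ D : Subgroup G) := by
    rw [← e1, ← e3]; exact Subgroup.relIndex_mul_relIndex _ _ _ bot_le le_sup_right
  rw [← h2, Subgroup.relIndex_sup_right, ← Subgroup.inf_relIndex_right, hbot,
    Subgroup.relIndex_bot_left, sc_card hx]

theorem sc_commutator_le_sup (hC : Subgroup.centralizer ({x} : Set G) = Subgroup.zpowers x)
    (S : Subgroup G) [S.Normal]
    (hNS : Subgroup.normalizer ((Subgroup.zpowers x : Subgroup G) : Set G) ⊔ S = ⊤) :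
    commutator G ≤ Subgroup.zpowers x ⊔ S := by
  rw [commutator_def, Subgroup.commutator_le]
  intro g _ k _
  have key : ∀ g : G, ∃ n ∈ Subgroup.normalizer ((Subgroup.zpowers x : Subgroup G) : Set G),
      ∃ s ∈ S, g = n * s := by
    intro g
    have hg : g ∈ (Subgroup.normalizer ((Subgroup.zpowers x : Subgroup G) : Set G) ⊔ S : Subgroup G) := by
      rw [hNS]; exact Subgroup.mem_top g
    have h3 := Subgroup.mul_normal (Subgroup.normalizer ((Subgroup.zpowers x : Subgroup G) : Set G)) S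
    have hg' : g ∈ ((Subgroup.normalizer ((Subgroup.zpowers x : Subgroup G) : Set G) : Set G)
        * (S : Set G)) := by
      rw [← h3]; exact hg
    obtain ⟨n, hn, s, hs, rfl⟩ := Set.mem_mul.1 hg'
    exact ⟨n, hn, s, hs, rfl⟩
  obtain ⟨n, hn, s, hs, rfl⟩ := key g
  obtain ⟨m, hm, u, hu, rfl⟩ := key k
  have hX := sc_comm_mem hC hn hm
  have hs' : (n * m * n⁻¹ * m⁻¹)⁻¹ * ⁅n * s, m * u⁆ ∈ S := by
    rw [commutatorElement_def, ← QuotientGroup.eq_one_iff]
    have hs1 : ((s : G) : G ⧸ S) = 1 := (QuotientGroup.eq_one_iff s).2 hs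
    have hu1 : ((u : G) : G ⧸ S) = 1 := (QuotientGroup.eq_one_iff u).2 hu
    simp only [QuotientGroup.mk_mul, QuotientGroup.mk_inv, hs1, hu1, mul_one]
    group
  have h5 : ⁅n * s, m * u⁆ = (n * m * n⁻¹ * m⁻¹) * ((n * m * n⁻¹ * m⁻¹)⁻¹ * ⁅n * s, m * u⁆) := by
    group
  rw [h5]
  exact Subgroup.mul_mem_sup hX hs'

theorem sc_comm_sup_le (S : Subgroup G) [S.Normal] :
    ⁅Subgroup.zpowers x ⊔ S, Subgroup.zpowers x ⊔ S⁆ ≤ S := by
  rw [Subgroup.commutator_le]
  have key : ∀ g ∈ Subgroup.zpowers x ⊔ S, ∃ j : ℤ, ∃ s ∈ S, g = x ^ j * s := by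
    intro g hg
    have h3 := Subgroup.mul_normal (Subgroup.zpowers x) S
    have hg' : g ∈ (((Subgroup.zpowers x : Subgroup G) : Set G) * (S : Set G)) := by
      rw [← h3]; exact hg
    obtain ⟨k, hk, s, hs, rfl⟩ := Set.mem_mul.1 hg'
    obtain ⟨j, rfl⟩ := Subgroup.mem_zpowers_iff.1 hk
    exact ⟨j, s, hs, rfl⟩
  intro a ha b hb
  obtain ⟨i, s, hs, rfl⟩ := key a ha
  obtain ⟨j, u, hu, rfl⟩ := key b hb
  rw [commutatorElement_def, ← QuotientGroup.eq_one_iff]
  have hs1 : ((s : G) : G ⧸ S) = 1 := (QuotientGroup.eq_one_iff s).2 hs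
  have hu1 : ((u : G) : G ⧸ S) = 1 := (QuotientGroup.eq_one_iff u).2 hu
  simp only [QuotientGroup.mk_mul, QuotientGroup.mk_inv, QuotientGroup.mk_zpow, hs1, hu1, mul_one]
  rw [(Commute.zpow_zpow_self (x : G ⧸ S) i j).eq]; group

end

/-! General facts on `O_{p'}`. -/

theorem h24_card_sup_dvd {G : Type*} [Group G] [Finite G] (A B : Subgroup G) [B.Normal] :
    Nat.card (A ⊔ B : Subgroup G) ∣ Nat.card A * Nat.card B := by
  have e1 : (⊥ : Subgroup G).relIndex B = Nat.card B := Subgroup.relIndex_bot_left B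
  have e3 : (⊥ : Subgroup G).relIndex (A ⊔ B) = Nat.card (A ⊔ B : Subgroup G) :=
    Subgroup.relIndex_bot_left (A ⊔ B)
  have h2 : Nat.card B * B.relIndex (A ⊔ B) = Nat.card (A ⊔ B : Subgroup G) := by
    rw [← e1, ← e3]; exact Subgroup.relIndex_mul_relIndex _ _ _ bot_le le_sup_right
  rw [← h2, Subgroup.relIndex_sup_right, mul_comm]
  exact Nat.mul_dvd_mul_right (Subgroup.relIndex_dvd_card B A) _

theorem h24_pPrimeCore_normal (p : ℕ) (G : Type*) [Group G] : (Cfsg.pPrimeCore p G).Normal :=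
  Subgroup.sSup_normal _ (fun _ h => h.1)

theorem h24_pPrimeCore_coprime {G : Type*} [Group G] [Finite G] (p : ℕ) :
    (Nat.card (Cfsg.pPrimeCore p G)).Coprime p := by
  haveI : Nonempty {N : Subgroup G // N.Normal ∧ (Nat.card N).Coprime p} :=
    ⟨⟨⊥, inferInstance, by simp⟩⟩
  obtain ⟨⟨M, hMn, hMc⟩, hmax⟩ := Finite.exists_max
    (fun N : {N : Subgroup G // N.Normal ∧ (Nat.card N).Coprime p} => Nat.card N.1)
  have hle : Cfsg.pPrimeCore p G ≤ M := by
    apply sSup_le
    rintro A ⟨hAn, hAc⟩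
    haveI := hMn
    haveI := hAn
    have h1 : (Nat.card (A ⊔ M : Subgroup G)).Coprime p :=
      Nat.Coprime.coprime_dvd_left (h24_card_sup_dvd A M) (Nat.Coprime.mul_left hAc hMc)
    have h2 : Nat.card (A ⊔ M : Subgroup G) ≤ Nat.card M := hmax ⟨A ⊔ M, inferInstance, h1⟩
    have h3 : M = A ⊔ M := Subgroup.eq_of_le_of_card_ge le_sup_right h2
    rw [h3]; exact le_sup_left
  exact Nat.Coprime.coprime_dvd_left (Subgroup.card_dvd_of_le hle) hMc

theorem h24_pPrimeCore_not_dvd {G : Type*} [Group G] [Finite G] {p : ℕ} (hp : p.Prime) :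
    ¬ p ∣ Nat.card (Cfsg.pPrimeCore p G) :=
  (Nat.Prime.coprime_iff_not_dvd hp).1 (h24_pPrimeCore_coprime p).symm

theorem h24_le_pPrimeCore {G : Type*} [Group G] {p : ℕ} (hp : p.Prime) (S : Subgroup G)
    [hS : S.Normal] (h : ¬ p ∣ Nat.card S) : S ≤ Cfsg.pPrimeCore p G :=
  le_sSup ⟨hS, ((Nat.Prime.coprime_iff_not_dvd hp).2 h).symm⟩

theorem h24_map_core_normal {G : Type*} [Group G] [Finite G] (p : ℕ) (H : Subgroup G)
    [hH : H.Normal] : ((Cfsg.pPrimeCore p ↥H).map H.subtype).Normal := by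
  constructor
  intro n hn g
  obtain ⟨l, hl, rfl⟩ := Subgroup.mem_map.1 hn
  have hmap : (Cfsg.pPrimeCore p ↥H).map (MulAut.conjNormal g : ↥H ≃* ↥H).toMonoidHom
      ≤ Cfsg.pPrimeCore p ↥H := by
    apply le_sSup
    refine ⟨?_, ?_⟩
    · exact Subgroup.Normal.map (h24_pPrimeCore_normal p ↥H) _ (MulEquiv.surjective _)
    · rw [Subgroup.card_map_of_injective (MulEquiv.injective _)]
      exact h24_pPrimeCore_coprime p
  have h1 : (MulAut.conjNormal g : ↥H ≃* ↥H) l ∈ Cfsg.pPrimeCore p ↥H :=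
    hmap (Subgroup.mem_map_of_mem _ hl)
  refine Subgroup.mem_map.2 ⟨_, h1, ?_⟩
  simp [MulAut.conjNormal_apply]

section

variable {G : Type*} [Group G] [Finite G] {p : ℕ} {x : G}

theorem sc_derived_card (hp : p.Prime) (hx : orderOf x = p)
    (hC : Subgroup.centralizer ({x} : Set G) = Subgroup.zpowers x)
    (he : (Subgroup.zpowers x).relIndex
      (Subgroup.normalizer ((Subgroup.zpowers x : Subgroup G) : Set G)) ≠ 1)
    (hne : ⁅commutator G, commutator G⁆ ≠ commutator G) :
    Nat.card (⁅commutator G, commutator G⁆ : Subgroup G)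
        = (Subgroup.normalizer ((Subgroup.zpowers x : Subgroup G) : Set G)).index ∧
      Nat.card (commutator G)
        = p * (Subgroup.normalizer ((Subgroup.zpowers x : Subgroup G) : Set G)).index := by
  have hXle := sc_zpowers_le_commutator hp hx hC he
  have hDle : ⁅commutator G, commutator G⁆ ≤ commutator G := Subgroup.commutator_le_right _ _
  have hDn : (⁅commutator G, commutator G⁆ : Subgroup G).Normal := inferInstance
  have hcm : ∀ h ∈ commutator G, h * x * h⁻¹ * x⁻¹ ∈ (⁅commutator G, commutator G⁆ : Subgroup G) := by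
    intro h hh
    have hD : ⁅h, x⁆ ∈ (⁅commutator G, commutator G⁆ : Subgroup G) :=
      Subgroup.commutator_mem_commutator hh (hXle (Subgroup.mem_zpowers x))
    rw [commutatorElement_def] at hD
    exact hD
  generalize (⁅commutator G, commutator G⁆ : Subgroup G) = D at hne hDle hDn hcm ⊢
  haveI := hDn
  have hpD : ¬ p ∣ Nat.card D := by
    intro h
    exact hne (le_antisymm hDle (sc_commutator_le hp hx hC D (sc_le_of_normal hp hx hC D h)))
  have hsup : commutator G = Subgroup.zpowers x ⊔ D := by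
    apply le_antisymm
    · intro h hh
      obtain ⟨d, hd, k, hk, rfl⟩ := sc_mem_of_comm_mem hp hx hC D hpD (hcm h hh)
      exact (Subgroup.zpowers x ⊔ D).mul_mem (le_sup_right (a := Subgroup.zpowers x) hd)
        (le_sup_left (b := D) hk)
    · exact sup_le hXle hDle
  have hcardG' : Nat.card (commutator G) = Nat.card D * p := by
    rw [hsup]; exact sc_card_sup hp hx D hpD
  have hNtop : Subgroup.normalizer ((Subgroup.zpowers x : Subgroup G) : Set G) ⊔ D = ⊤ := by
    have h1 := sc_frattini hp hx hC (commutator G) hXle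
    rw [hsup, ← sup_assoc, sup_eq_left.2 (Subgroup.le_normalizer :
      Subgroup.zpowers x ≤ Subgroup.normalizer ((Subgroup.zpowers x : Subgroup G) : Set G))] at h1
    exact h1
  have hidx := sc_index_normalizer hp hx hC D hpD
  rw [hNtop, Subgroup.index_top, mul_one] at hidx
  exact ⟨hidx.symm, by rw [hcardG', hidx, mul_comm]⟩

theorem sc_derived_ne (hp : p.Prime) (hx : orderOf x = p)
    (hC : Subgroup.centralizer ({x} : Set G) = Subgroup.zpowers x)
    (he : (Subgroup.zpowers x).relIndex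
      (Subgroup.normalizer ((Subgroup.zpowers x : Subgroup G) : Set G)) ≠ 1)
    (S : Subgroup G) [S.Normal]
    (hS : Nat.card S = (Subgroup.normalizer ((Subgroup.zpowers x : Subgroup G) : Set G)).index) :
    ⁅commutator G, commutator G⁆ ≠ commutator G := by
  haveI : Fact p.Prime := ⟨hp⟩
  have hXle := sc_zpowers_le_commutator hp hx hC he
  have hpS : ¬ p ∣ Nat.card S := by
    rw [hS, ← sc_card_sylow hp hx hC]
    intro h
    have h1 := card_sylow_modEq_one p G
    have h2 : Nat.card (Sylow p G) % p = 0 := Nat.mod_eq_zero_of_dvd h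
    rw [Nat.ModEq, h2, Nat.mod_eq_of_lt hp.one_lt] at h1
    exact zero_ne_one h1
  have hidx := sc_index_normalizer hp hx hC S hpS
  rw [← hS] at hidx
  have hpos : 0 < Nat.card S := Nat.card_pos
  have hNS1 : (Subgroup.normalizer ((Subgroup.zpowers x : Subgroup G) : Set G) ⊔ S).index = 1 := by
    have h5 : Nat.card S * (Subgroup.normalizer ((Subgroup.zpowers x : Subgroup G) : Set G) ⊔ S).index
        = Nat.card S * 1 := by rw [mul_one]; exact hidx.symm
    exact Nat.eq_of_mul_eq_mul_left hpos h5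
  have hNS := Subgroup.index_eq_one.1 hNS1
  have h1 := sc_commutator_le_sup hC S hNS
  have h2 : ⁅commutator G, commutator G⁆ ≤ S :=
    (Subgroup.commutator_mono h1 h1).trans (sc_comm_sup_le S)
  intro heq
  rw [heq] at h2
  have hxS : x ∈ S := h2 (hXle (Subgroup.mem_zpowers x))
  have h4 : x ∈ S ⊓ Subgroup.zpowers x := ⟨hxS, Subgroup.mem_zpowers x⟩
  rw [sc_inf_eq_bot hp hx S hpS, Subgroup.mem_bot] at h4
  exact sc_x_ne_one hp hx h4

theorem sc_simple (hp : p.Prime) (hx : orderOf x = p)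
    (hC : Subgroup.centralizer ({x} : Set G) = Subgroup.zpowers x)
    (hXle : Subgroup.zpowers x ≤ commutator G)
    [hnorm : ((Cfsg.pPrimeCore p G).subgroupOf (commutator G)).Normal] :
    IsSimpleGroup (↥(commutator G) ⧸ (Cfsg.pPrimeCore p G).subgroupOf (commutator G)) := by
  haveI hSn := h24_pPrimeCore_normal p G
  have hSp : ¬ p ∣ Nat.card (Cfsg.pPrimeCore p G) := h24_pPrimeCore_not_dvd hp
  have hle : Cfsg.pPrimeCore p G ≤ commutator G := sc_le_commutator hp hx hC _ hSp
  have hxH : x ∈ commutator G := hXle (Subgroup.mem_zpowers x)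
  have hx' := sc_subtype_orderOf hx (commutator G) hxH
  have hC' := sc_subtype_centralizer hC (commutator G) hxH
  have hxS : x ∉ Cfsg.pPrimeCore p G := by
    intro h1
    have h4 : x ∈ Cfsg.pPrimeCore p G ⊓ Subgroup.zpowers x := ⟨h1, Subgroup.mem_zpowers x⟩
    rw [sc_inf_eq_bot hp hx _ hSp, Subgroup.mem_bot] at h4
    exact sc_x_ne_one hp hx h4
  haveI : Nontrivial (↥(commutator G) ⧸ (Cfsg.pPrimeCore p G).subgroupOf (commutator G)) := by
    refine ⟨⟨((⟨x, hxH⟩ : ↥(commutator G)) : _ ⧸ _), 1, ?_⟩⟩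
    intro h1
    rw [QuotientGroup.eq_one_iff, Subgroup.mem_subgroupOf] at h1
    exact hxS h1
  refine ⟨fun Mbar hMbar => ?_⟩
  have hM'n : (Mbar.comap (QuotientGroup.mk' ((Cfsg.pPrimeCore p G).subgroupOf (commutator G)))).Normal :=
    hMbar.comap _
  have hKM' : (Cfsg.pPrimeCore p G).subgroupOf (commutator G)
      ≤ Mbar.comap (QuotientGroup.mk' ((Cfsg.pPrimeCore p G).subgroupOf (commutator G))) := by
    intro k hk
    rw [Subgroup.mem_comap]
    have h0 : (QuotientGroup.mk' ((Cfsg.pPrimeCore p G).subgroupOf (commutator G)) k) = 1 :=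
      (QuotientGroup.eq_one_iff k).2 hk
    rw [h0]; exact Mbar.one_mem
  have hmem : ∀ m : ↥(commutator G),
      m ∈ Mbar.comap (QuotientGroup.mk' ((Cfsg.pPrimeCore p G).subgroupOf (commutator G)))
        ↔ (m : ↥(commutator G) ⧸ (Cfsg.pPrimeCore p G).subgroupOf (commutator G)) ∈ Mbar :=
    fun m => Iff.rfl
  generalize Mbar.comap (QuotientGroup.mk' ((Cfsg.pPrimeCore p G).subgroupOf (commutator G))) = M'
    at hM'n hKM' hmem
  haveI := hM'n
  by_cases hpM : p ∣ Nat.card M'
  · right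
    have hXM' : Subgroup.zpowers (⟨x, hxH⟩ : ↥(commutator G)) ≤ M' :=
      sc_le_of_normal hp hx' hC' M' hpM
    have hcomm : commutator ↥(commutator G) ≤ M' := sc_commutator_le hp hx' hC' M' hXM'
    have hM'top : ∀ h : ↥(commutator G), h ∈ M' := by
      by_cases hpD : p ∣ Nat.card (⁅commutator G, commutator G⁆ : Subgroup G)
      · have h1 : commutator G ≤ ⁅commutator G, commutator G⁆ :=
          sc_commutator_le hp hx hC _ (sc_le_of_normal hp hx hC _ hpD)
        intro h
        apply hcomm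
        have h2 : (h : G) ∈ (commutator ↥(commutator G)).map (commutator G).subtype := by
          rw [Subgroup.map_subtype_commutator]; exact h1 h.2
        obtain ⟨h', hh', heq⟩ := Subgroup.mem_map.1 h2
        have h3 : h' = h := Subtype.ext heq
        rw [← h3]; exact hh'
      · intro h
        have hD : ⁅(h : G), x⁆ ∈ (⁅commutator G, commutator G⁆ : Subgroup G) :=
          Subgroup.commutator_mem_commutator h.2 hxH
        rw [commutatorElement_def] at hD
        obtain ⟨d, hd, k, hk, hdk⟩ := sc_mem_of_comm_mem hp hx hC _ hpD hD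
        have hdS : d ∈ Cfsg.pPrimeCore p G := h24_le_pPrimeCore hp _ hpD hd
        have hdH : d ∈ commutator G := hle hdS
        have hkH : k ∈ commutator G := hXle hk
        have h3 : h = ⟨d, hdH⟩ * ⟨k, hkH⟩ := Subtype.ext hdk
        rw [h3]
        apply M'.mul_mem
        · apply hKM'; rw [Subgroup.mem_subgroupOf]; exact hdS
        · apply hXM'
          obtain ⟨j, rfl⟩ := Subgroup.mem_zpowers_iff.1 hk
          rw [Subgroup.mem_zpowers_iff]; exact ⟨j, Subtype.ext (by simp)⟩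
    rw [eq_top_iff]
    intro mbar _
    obtain ⟨m, rfl⟩ := QuotientGroup.mk_surjective mbar
    exact (hmem m).1 (hM'top m)
  · left
    have hM'le : M' ≤ Cfsg.pPrimeCore p ↥(commutator G) := h24_le_pPrimeCore hp M' hpM
    have hL : (Cfsg.pPrimeCore p ↥(commutator G)).map (commutator G).subtype
        ≤ Cfsg.pPrimeCore p G := by
      haveI : ((Cfsg.pPrimeCore p ↥(commutator G)).map (commutator G).subtype).Normal :=
        h24_map_core_normal p (commutator G)
      apply h24_le_pPrimeCore hp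
      rw [Subgroup.card_map_of_injective (Subgroup.subtype_injective _)]
      exact h24_pPrimeCore_not_dvd hp
    rw [eq_bot_iff]
    intro mbar hmbar
    obtain ⟨m, rfl⟩ := QuotientGroup.mk_surjective mbar
    have hm : m ∈ M' := (hmem m).2 hmbar
    rw [Subgroup.mem_bot, QuotientGroup.eq_one_iff, Subgroup.mem_subgroupOf]
    exact hL (Subgroup.mem_map_of_mem _ (hM'le hm))

end

end Cfsg.Agent.Helper24
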