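import Mathlib

/-!
# `p`-elements with `p'`-class sizes and abelian Sylow subgroups (helper24)

If every `p`-element of `G` has conjugacy class size prime to `p`, the same holds in normal
subgroups and quotients; and if moreover the Sylow `p`-subgroups of a normal subgroup `N`
and of `G ⧸ N` are abelian, so are those of `G`.
-/

set_option autoImplicit false

namespace Cfsg.Agent.Helper24

theorem card_mul_relIndex_of_le {G : Type*} [Group G] {H K : Subgroup G} (h : H ≤ K) :
    Nat.card H * H.relIndex K = Nat.card K := by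
  have := (H.subgroupOf K).card_mul_index
  rwa [Nat.card_congr (Subgroup.subgroupOfEquivOfLe h).toEquiv] at this

/-- `|N : N ∩ H|` divides `|G : H|` when `N` is normal. -/
theorem relIndex_dvd_index_of_normal_right {G : Type*} [Group G] [Finite G]
    (H N : Subgroup G) [N.Normal] : H.relIndex N ∣ H.index := by
  have h1 : N.relIndex (H ⊔ N) = N.relIndex H := Subgroup.relIndex_sup_right H N
  have h2 : H.relIndex (H ⊔ N) ∣ H.index := Subgroup.relIndex_dvd_index_of_le le_sup_left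
  have a1 := card_mul_relIndex_of_le (le_sup_left : H ≤ H ⊔ N)
  have a2 := card_mul_relIndex_of_le (le_sup_right : N ≤ H ⊔ N)
  have a3 := card_mul_relIndex_of_le (inf_le_left : H ⊓ N ≤ H)
  have a4 := card_mul_relIndex_of_le (inf_le_right : H ⊓ N ≤ N)
  rw [Subgroup.inf_relIndex_left] at a3
  rw [Subgroup.inf_relIndex_right] at a4
  have h3 : Nat.card H * H.relIndex (H ⊔ N) = Nat.card H * H.relIndex N := by
    rw [a1, ← a2, h1, ← a4, ← a3]; ring
  rw [← Nat.eq_of_mul_eq_mul_left Nat.card_pos h3]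
  exact h2

/-- Sylow conjugacy inside a subgroup `L`, stated in the ambient group. -/
theorem sylow_conj_in {G : Type*} [Group G] [Finite G] {p : ℕ} [Fact p.Prime]
    {L R₀ R₁ : Subgroup G} (hR₀ : IsPGroup p R₀) (hidx : ¬ p ∣ R₀.relIndex L)
    (hR₁ : IsPGroup p R₁) (hR₁L : R₁ ≤ L) :
    ∃ l ∈ L, ∀ r ∈ R₁, l⁻¹ * r * l ∈ R₀ := by
  have hp0 : IsPGroup p ↥(R₀.subgroupOf L) := hR₀.comap_subtype
  obtain ⟨PL, hPL⟩ : ∃ PL : Sylow p L, (PL : Subgroup L) = R₀.subgroupOf L :=
    ⟨hp0.toSylow hidx, rfl⟩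
  have hp1 : IsPGroup p ↥(R₁.subgroupOf L) := hR₁.comap_subtype
  obtain ⟨Q₁, hQ₁⟩ := hp1.exists_le_sylow
  obtain ⟨l, hl⟩ := MulAction.exists_smul_eq (↥L) PL Q₁
  refine ⟨(l : G), l.2, ?_⟩
  intro r hr
  have h1 : (⟨r, hR₁L hr⟩ : ↥L) ∈ (Q₁ : Subgroup ↥L) :=
    hQ₁ (by rw [Subgroup.mem_subgroupOf]; exact hr)
  rw [← hl] at h1
  have h2 : (MulAut.conj l)⁻¹ • (⟨r, hR₁L hr⟩ : ↥L) ∈ (PL : Subgroup L) :=
    Subgroup.mem_pointwise_smul_iff_inv_smul_mem.mp h1
  rw [MulAut.smul_def, MulAut.conj_inv_apply, hPL, Subgroup.mem_subgroupOf] at h2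
  simpa using h2

/-- The class-size condition passes to normal subgroups. -/
theorem class_cond_normal {G : Type*} [Group G] [Finite G] (p : ℕ)
    (hcl : ∀ x : G, (∃ k : ℕ, orderOf x = p ^ k) →
      ¬ p ∣ (Subgroup.centralizer ({x} : Set G)).index)
    (N : Subgroup G) [N.Normal] :
    ∀ x : N, (∃ k : ℕ, orderOf x = p ^ k) →
      ¬ p ∣ (Subgroup.centralizer ({x} : Set N)).index := by
  rintro x ⟨k, hk⟩
  have h1 := hcl (x : G) ⟨k, by rw [Subgroup.orderOf_coe]; exact hk⟩
  intro hdvd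
  apply h1
  have h2 : (Subgroup.centralizer ({x} : Set N))
      = (Subgroup.centralizer ({(x : G)} : Set G)).subgroupOf N := by
    ext y
    rw [Subgroup.mem_subgroupOf, Subgroup.mem_centralizer_iff, Subgroup.mem_centralizer_iff]
    constructor
    · intro hy z hz
      rw [Set.mem_singleton_iff] at hz
      have := hy x rfl
      rw [hz]
      exact_mod_cast congrArg Subtype.val this
    · intro hy z hz
      rw [Set.mem_singleton_iff] at hz
      have := hy (x : G) rfl
      rw [hz]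
      exact Subtype.ext this
  rw [h2] at hdvd
  exact dvd_trans hdvd (relIndex_dvd_index_of_normal_right _ N)

/-- The class-size condition passes to quotients. -/
theorem class_cond_quot {G : Type*} [Group G] [Finite G] (p : ℕ) [Fact p.Prime]
    (hcl : ∀ x : G, (∃ k : ℕ, orderOf x = p ^ k) →
      ¬ p ∣ (Subgroup.centralizer ({x} : Set G)).index)
    (N : Subgroup G) [N.Normal] :
    ∀ x : G ⧸ N, (∃ k : ℕ, orderOf x = p ^ k) →
      ¬ p ∣ (Subgroup.centralizer ({x} : Set (G ⧸ N))).index := by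
  have hp : p.Prime := Fact.out
  rintro xb ⟨k, hk⟩
  obtain ⟨x, rfl⟩ := QuotientGroup.mk_surjective xb
  have ho : orderOf x ≠ 0 := (orderOf_pos x).ne'
  obtain ⟨a, m, hm, hom⟩ := Nat.exists_eq_pow_mul_and_not_dvd ho p hp.ne_one
  have hcop : m.Coprime (orderOf (x : G ⧸ N)) := by
    rw [hk]
    exact Nat.Coprime.pow_right _ (Nat.coprime_comm.mp ((Nat.Prime.coprime_iff_not_dvd hp).mpr hm))
  obtain ⟨u, hu⟩ := exists_pow_eq_self_of_coprime hcop
  have hy1 : ((x ^ m) ^ u) ^ (p ^ a) = 1 := by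
    calc ((x ^ m) ^ u) ^ (p ^ a) = (x ^ (p ^ a * m)) ^ u := by
          rw [← pow_mul, ← pow_mul, ← pow_mul]; congr 1; ring
      _ = 1 := by rw [← hom, pow_orderOf_eq_one, one_pow]
  obtain ⟨j, -, hj⟩ := (Nat.dvd_prime_pow hp).mp (orderOf_dvd_of_pow_eq_one hy1)
  have h1 := hcl ((x ^ m) ^ u) ⟨j, hj⟩
  intro hdvd
  apply h1
  have hle : Subgroup.centralizer ({(x ^ m) ^ u} : Set G)
      ≤ (Subgroup.centralizer ({(x : G ⧸ N)} : Set (G ⧸ N))).comap (QuotientGroup.mk' N) := by
    intro c hc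
    rw [Subgroup.mem_comap, Subgroup.mem_centralizer_iff]
    intro z hz
    rw [Set.mem_singleton_iff] at hz
    rw [Subgroup.mem_centralizer_iff] at hc
    have h3 := hc _ rfl
    have h4 := congrArg (QuotientGroup.mk' N) h3
    rw [map_mul, map_mul, map_pow, map_pow] at h4
    rw [hz, ← hu]
    exact h4
  have h5 := Subgroup.index_dvd_of_le hle
  rw [Subgroup.index_comap_of_surjective _ (QuotientGroup.mk'_surjective N)] at h5
  exact dvd_trans hdvd h5

/-- If all `p`-elements have `p'`-class size and the Sylow `p`-subgroups of `N ⊴ G` and of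
`G ⧸ N` are abelian, then the Sylow `p`-subgroups of `G` are abelian. -/
theorem abelian_sylow_of_normal {G : Type*} [Group G] [Finite G] (p : ℕ) [Fact p.Prime]
    (hcl : ∀ x : G, (∃ k : ℕ, orderOf x = p ^ k) →
      ¬ p ∣ (Subgroup.centralizer ({x} : Set G)).index)
    (N : Subgroup G) [N.Normal]
    (habN : ∀ R : Sylow p N, IsMulCommutative R)
    (habQ : ∀ R : Sylow p (G ⧸ N), IsMulCommutative R) (P : Sylow p G) :
    IsMulCommutative P := by
  classical
  have hp : p.Prime := Fact.out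
  -- `P' ≤ N`
  have hPN : ∀ a ∈ (P : Subgroup G), ∀ b ∈ (P : Subgroup G), a * b * a⁻¹ * b⁻¹ ∈ N := by
    intro a ha b hb
    obtain ⟨R, hR⟩ := (P.isPGroup'.map (QuotientGroup.mk' N)).exists_le_sylow
    haveI := habQ R
    have hca : (QuotientGroup.mk' N a) ∈ (R : Subgroup (G ⧸ N)) := hR ⟨a, ha, rfl⟩
    have hcb : (QuotientGroup.mk' N b) ∈ (R : Subgroup (G ⧸ N)) := hR ⟨b, hb, rfl⟩
    have hc := (inferInstance : IsMulCommutative ↥(R : Subgroup (G ⧸ N))).is_comm.comm
      ⟨_, hca⟩ ⟨_, hcb⟩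
    have hc' : QuotientGroup.mk' N a * QuotientGroup.mk' N b
        = QuotientGroup.mk' N b * QuotientGroup.mk' N a := congrArg Subtype.val hc
    have h1 : (QuotientGroup.mk' N) (a * b * a⁻¹ * b⁻¹) = 1 := by
      rw [map_mul, map_mul, map_mul, map_inv, map_inv, hc']; group
    exact (QuotientGroup.eq_one_iff _).mp h1
  -- `P ⊓ N` is abelian
  have hP0 : ∀ a ∈ (P : Subgroup G), a ∈ N → ∀ b ∈ (P : Subgroup G), b ∈ N →
      a * b = b * a := by
    intro a haP haN b hbP hbN
    obtain ⟨R, hR⟩ := (P.isPGroup'.comap_subtype (K := N)).exists_le_sylow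
    haveI := habN R
    have hca : (⟨a, haN⟩ : N) ∈ (R : Subgroup N) := hR haP
    have hcb : (⟨b, hbN⟩ : N) ∈ (R : Subgroup N) := hR hbP
    have hc := (inferInstance : IsMulCommutative ↥(R : Subgroup N)).is_comm.comm
      ⟨_, hca⟩ ⟨_, hcb⟩
    exact congrArg (fun t : ↥(R : Subgroup N) => ((t : N) : G)) hc
  -- decomposition `x = b z`
  have hdecomp : ∀ x ∈ (P : Subgroup G), ∃ b z : G, b ∈ (P : Subgroup G) ∧ b ∈ N ∧
      z ∈ (P : Subgroup G) ∧ (∀ a ∈ (P : Subgroup G), z * a = a * z) ∧ x = b * z := by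
    intro x hx
    obtain ⟨k, hk⟩ := (IsPGroup.iff_orderOf.mp P.isPGroup') ⟨x, hx⟩
    have hk' : orderOf x = p ^ k := by
      rw [← hk]; exact Subgroup.orderOf_coe (⟨x, hx⟩ : (P : Subgroup G))
    have hC := hcl x ⟨k, hk'⟩
    obtain ⟨C, hCdef⟩ : ∃ C : Subgroup G, C = Subgroup.centralizer ({x} : Set G) := ⟨_, rfl⟩
    rw [← hCdef] at hC
    have hmemC : ∀ c : G, c ∈ C ↔ x * c = c * x := by
      intro c
      rw [hCdef, Subgroup.mem_centralizer_iff]
      constructor
      · intro h; exact h x rfl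
      · intro h z hz; rw [Set.mem_singleton_iff.mp hz]; exact h
    have hfix := P.isPGroup'.nonempty_fixed_point_of_prime_not_dvd_card (G ⧸ C)
      (by rwa [← Subgroup.index_eq_card])
    obtain ⟨q, hq⟩ := hfix
    obtain ⟨g, rfl⟩ := QuotientGroup.mk_surjective q
    have hgP : ∀ a ∈ (P : Subgroup G), g⁻¹ * a * g ∈ C := by
      intro a ha
      have h1 := hq ⟨a, ha⟩
      have h2 : ((a * g : G) : G ⧸ C) = (g : G ⧸ C) := h1
      rw [QuotientGroup.eq] at h2
      have h3 := C.inv_mem h2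
      have e : ((a * g)⁻¹ * g)⁻¹ = g⁻¹ * a * g := by group
      rw [e] at h3
      exact h3
    obtain ⟨L, hLdef⟩ : ∃ L : Subgroup G, L = (Subgroup.centralizer
        ({(QuotientGroup.mk' N x)} : Set (G ⧸ N))).comap (QuotientGroup.mk' N) := ⟨_, rfl⟩
    have hmemL : ∀ c : G, c ∈ L ↔ QuotientGroup.mk' N x * QuotientGroup.mk' N c
        = QuotientGroup.mk' N c * QuotientGroup.mk' N x := by
      intro c
      rw [hLdef, Subgroup.mem_comap, Subgroup.mem_centralizer_iff]
      constructor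
      · intro h; exact h _ rfl
      · intro h z hz; rw [Set.mem_singleton_iff.mp hz]; exact h
    have hCL : C ≤ L := by
      intro c hc
      rw [hmemL, ← map_mul, ← map_mul, (hmemC c).mp hc]
    have hPL : (P : Subgroup G) ≤ L := by
      intro a ha
      rw [hmemL]
      have h1 : (QuotientGroup.mk' N) (x * a * x⁻¹ * a⁻¹) = 1 :=
        (QuotientGroup.eq_one_iff _).mpr (hPN x hx a ha)
      rw [map_mul, map_mul, map_mul, map_inv, map_inv] at h1
      calc QuotientGroup.mk' N x * QuotientGroup.mk' N a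
          = (QuotientGroup.mk' N x * QuotientGroup.mk' N a * (QuotientGroup.mk' N x)⁻¹ *
              (QuotientGroup.mk' N a)⁻¹) * (QuotientGroup.mk' N a * QuotientGroup.mk' N x) := by
            group
        _ = _ := by rw [h1, one_mul]
    obtain ⟨Q, hQdef⟩ : ∃ Q : Subgroup G,
        Q = (P : Subgroup G).map ((MulAut.conj g⁻¹ : G ≃* G) : G →* G) := ⟨_, rfl⟩
    have hQp : IsPGroup p Q := by rw [hQdef]; exact P.isPGroup'.map _
    have hQidx : ¬ p ∣ Q.index := by
      rw [hQdef, Subgroup.index_map_equiv]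
      exact P.not_dvd_index
    have hQC : Q ≤ C := by
      rw [hQdef]
      rintro _ ⟨a, ha, rfl⟩
      have := hgP a ha
      simpa using this
    have hQL : Q ≤ L := hQC.trans hCL
    have hidx : ¬ p ∣ Q.relIndex L := fun hd =>
      hQidx (dvd_trans hd (Subgroup.relIndex_dvd_index_of_le hQL))
    obtain ⟨l, hlL, hl⟩ := sylow_conj_in hQp hidx P.isPGroup' hPL
    -- `z = l x l⁻¹` centralizes `P`
    have hzc : ∀ a ∈ (P : Subgroup G), (l * x * l⁻¹) * a = a * (l * x * l⁻¹) := by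
      intro a ha
      have h1 := (hmemC _).mp (hQC (hl a ha))
      calc (l * x * l⁻¹) * a = l * (x * (l⁻¹ * a * l)) * l⁻¹ := by group
        _ = l * ((l⁻¹ * a * l) * x) * l⁻¹ := by rw [h1]
        _ = a * (l * x * l⁻¹) := by group
    have hzo : orderOf (l * x * l⁻¹) = p ^ k := by
      have := orderOf_injective ((MulAut.conj l : G ≃* G) : G →* G) (MulAut.conj l).injective x
      rw [← hk', ← this]
      rfl
    have hzp : IsPGroup p (Subgroup.zpowers (l * x * l⁻¹)) :=
      IsPGroup.of_card (n := k) (by rw [Nat.card_zpowers, hzo])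
    have hzn : Subgroup.zpowers (l * x * l⁻¹) ≤ Subgroup.normalizer ((P : Subgroup G) : Set G) := by
      rw [Subgroup.zpowers_le]
      apply Subgroup.mem_normalizer_fintype
      intro a ha
      rw [hzc a ha, mul_inv_cancel_right]
      exact ha
    have hsup := hzp.to_sup_of_normal_right' P.isPGroup' hzn
    have hzP : l * x * l⁻¹ ∈ (P : Subgroup G) := by
      rw [← P.is_maximal' hsup le_sup_right]
      exact (le_sup_left : Subgroup.zpowers (l * x * l⁻¹) ≤ _) (Subgroup.mem_zpowers _)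
    refine ⟨x * (l * x * l⁻¹)⁻¹, l * x * l⁻¹, ?_, ?_, hzP, hzc, by group⟩
    · exact (P : Subgroup G).mul_mem hx ((P : Subgroup G).inv_mem hzP)
    · have h1 := (hmemL l).mp hlL
      rw [← QuotientGroup.eq_one_iff]
      show (QuotientGroup.mk' N) (x * (l * x * l⁻¹)⁻¹) = 1
      rw [map_mul, map_inv, map_mul, map_mul, map_inv, ← h1]
      group
  refine ⟨⟨fun a b => ?_⟩⟩
  obtain ⟨b1, z1, hb1P, hb1N, hz1P, hz1c, h1⟩ := hdecomp a a.2
  obtain ⟨b2, z2, hb2P, hb2N, hz2P, hz2c, h2⟩ := hdecomp b b.2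
  apply Subtype.ext
  show (a : G) * b = b * a
  rw [h1, h2]
  have e1 : z1 * b2 = b2 * z1 := hz1c b2 hb2P
  have e2 : z2 * b1 = b1 * z2 := hz2c b1 hb1P
  have e3 : z1 * z2 = z2 * z1 := hz1c z2 hz2P
  have e4 : b1 * b2 = b2 * b1 := hP0 b1 hb1P hb1N b2 hb2P hb2N
  calc b1 * z1 * (b2 * z2) = b1 * (z1 * b2) * z2 := by group
    _ = b1 * b2 * (z1 * z2) := by rw [e1]; group
    _ = b2 * b1 * (z2 * z1) := by rw [e4, e3]
    _ = b2 * (b1 * z2) * z1 := by group
    _ = b2 * z2 * (b1 * z1) := by rw [← e2]; group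

end Cfsg.Agent.Helper24
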