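import Mathlib
import Cfsg.Agent.Helper24.InvAbove
import Cfsg.Agent.Helper7.Brauer
import Cfsg.Agent.S0854
import Cfsg.Agent.S0169
import Cfsg.Agent.Helper25.CharArith
import Cfsg.Agent.Helper25.CharKer
import Cfsg.Agent.Helper1.CharClass

/-!
# Clifford degree divisibility and Ito's theorem for solvable groups (helper24)
-/

set_option autoImplicit false

namespace Cfsg.Agent.Helper24

open Cfsg

universe u

section Degrees

variable {G : Type u} [Group G] [Fintype G]

/-- Every irreducible character of a subgroup lies under some irreducible character. -/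
theorem exists_irr_over (N : Subgroup G) [Fintype N] (ψ : IrrCharacter N) :
    ∃ χ : IrrCharacter G, classInner (fun n : N => (χ : G → ℂ) n) (ψ : N → ℂ) ≠ 0 := by
  have hind : IsCharacter G (indFun N (ψ : N → ℂ)) :=
    Helper2.isCharacter_indFun N (Helper2.isCharacter_of_isIrrCharacter ψ.2)
  have hind1 : indFun N (ψ : N → ℂ) 1 ≠ 0 := by
    rw [Cfsg.Agent.Helper7.indFun_one]
    have h1 : (ψ : N → ℂ) 1 ≠ 0 := by
      rw [Helper25.irr_one_eq_degree]
      exact Nat.cast_ne_zero.mpr (Helper25.irr_degree_pos ψ).ne'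
    have h2 : (Nat.card N : ℂ) ≠ 0 := Nat.cast_ne_zero.mpr Nat.card_pos.ne'
    have h3 : (Nat.card G : ℂ) ≠ 0 := Nat.cast_ne_zero.mpr Nat.card_pos.ne'
    exact mul_ne_zero (inv_ne_zero h2) (mul_ne_zero h3 h1)
  obtain ⟨χ, hχ⟩ := exists_constituent hind hind1
  refine ⟨χ, ?_⟩
  rw [Helper2.frobenius_reciprocity _ _ _
    (Helper2.isClassFunction_of_isCharacter (Helper2.isCharacter_of_isIrrCharacter χ.2))] at hχ
  rw [Helper2.classInner_conj_symm]
  intro h
  apply hχ
  have := congrArg (starRingEnd ℂ) h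
  simpa using this

/-- Clifford: the degree of a constituent of `χ_N` divides `χ(1)`. -/
theorem clifford_degree (N : Subgroup G) [hN : N.Normal] [Fintype N] (χ : IrrCharacter G)
    (ψ : IrrCharacter N)
    (h : classInner (fun n : N => (χ : G → ℂ) n) (ψ : N → ℂ) ≠ 0) :
    charDegree (ψ : N → ℂ) ∣ charDegree (χ : G → ℂ) := by
  classical
  have hχN : IsCharacter N (fun n : N => (χ : G → ℂ) n) :=
    Helper2.isCharacter_restrict N (Helper2.isCharacter_of_isIrrCharacter χ.2)
  have ha : ∀ ξ : IrrCharacter N, ∃ a : ℕ,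
      classInner (fun n : N => (χ : G → ℂ) n) (ξ : N → ℂ) = a := fun ξ =>
    Helper2.classInner_char_nat hχN (Helper2.isCharacter_of_isIrrCharacter ξ.2)
  choose a ha using ha
  have hdec := Helper2.classFun_eq_sum_classInner (Helper2.isClassFunction_of_isCharacter hχN)
  have h1 := congrFun hdec 1
  rw [Finset.sum_apply] at h1
  have h2 : ∀ ξ : IrrCharacter N,
      (classInner (fun n : N => (χ : G → ℂ) n) (ξ : N → ℂ) • (ξ : N → ℂ)) 1 =
        ((a ξ * charDegree (ψ : N → ℂ) : ℕ) : ℂ) := by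
    intro ξ
    rw [Pi.smul_apply, smul_eq_mul, ha ξ]
    by_cases h0 : a ξ = 0
    · rw [h0]; simp
    · have hξ : classInner (fun n : N => (χ : G → ℂ) n) (ξ : N → ℂ) ≠ 0 := by
        rw [ha ξ]; exact Nat.cast_ne_zero.mpr h0
      obtain ⟨g, hg⟩ := clifford_conj N (χ : G → ℂ) χ.2 (ψ : N → ℂ) ψ.2 h ξ hξ
      have : (ξ : N → ℂ) 1 = (ψ : N → ℂ) 1 := by
        rw [hg, Helper2.conjChar_apply]
        refine congrArg _ ?_
        apply Subtype.ext
        simp
      rw [this, Helper25.irr_one_eq_degree]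
      push_cast
      ring
  rw [Finset.sum_congr rfl (fun ξ _ => h2 ξ)] at h1
  have h3 : ((charDegree (χ : G → ℂ) : ℕ) : ℂ) =
      ((∑ ξ : IrrCharacter N, a ξ * charDegree (ψ : N → ℂ) : ℕ) : ℂ) := by
    rw [← Helper25.irr_one_eq_degree χ]
    push_cast
    push_cast at h1
    exact h1
  have h4 := Nat.cast_injective h3
  rw [h4, ← Finset.sum_mul]
  exact Dvd.intro_left _ rfl

end Degrees

section Inherit

variable {G : Type u} [Group G] [Finite G]

theorem pprime_degree_quot (p : ℕ) (N : Subgroup G) [N.Normal]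
    (h : ∀ χ : IrrCharacter G, ¬ p ∣ charDegree (χ : G → ℂ)) (χ : IrrCharacter (G ⧸ N)) :
    ¬ p ∣ charDegree (χ : G ⧸ N → ℂ) := by
  have hirr := Helper2.isIrrCharacter_comp_of_surjective (QuotientGroup.mk' N)
    (QuotientGroup.mk'_surjective N) χ.2
  have h0 := h ⟨_, hirr⟩
  have e : charDegree (fun g : G => (χ : G ⧸ N → ℂ) (QuotientGroup.mk' N g)) =
      charDegree (χ : G ⧸ N → ℂ) := by
    have h1 := Helper25.irr_one_eq_degree (⟨_, hirr⟩ : IrrCharacter G)
    have h2 := Helper25.irr_one_eq_degree χ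
    simp only [map_one] at h1
    rw [h2] at h1
    exact (Nat.cast_injective h1).symm
  rwa [e] at h0

theorem pprime_degree_normal (p : ℕ) (N : Subgroup G) [N.Normal]
    (h : ∀ χ : IrrCharacter G, ¬ p ∣ charDegree (χ : G → ℂ)) (ψ : IrrCharacter N) :
    ¬ p ∣ charDegree (ψ : N → ℂ) := by
  classical
  letI := Fintype.ofFinite G
  letI : Fintype N := Fintype.ofFinite N
  obtain ⟨χ, hχ⟩ := exists_irr_over N ψ
  exact fun hd => h χ (hd.trans (clifford_degree N χ ψ hχ))

/-- A finite group all of whose irreducible characters are linear is abelian. -/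
theorem comm_of_all_linear (h : ∀ χ : IrrCharacter G, charDegree (χ : G → ℂ) = 1) :
    ∀ a b : G, a * b = b * a := by
  classical
  letI := Fintype.ofFinite G
  have h1 := Helper25.sum_irr_degree_sq_nat (G := G)
  have h2 : Nat.card (IrrCharacter G) = Nat.card G := by
    rw [← h1, Finset.sum_congr rfl (fun χ _ => by rw [h χ, one_pow]), Finset.sum_const,
      Finset.card_univ, smul_eq_mul, mul_one, Nat.card_eq_fintype_card]
  have h3 : Nat.card (ConjClasses G) = Nat.card G := by rw [← Helper1.card_irr, h2]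
  have h4 := card_comm_eq_card_conjClasses_mul_card G
  rw [h3] at h4
  intro a b
  by_contra hab
  have : Nat.card {p : G × G // Commute p.1 p.2} < Nat.card (G × G) := by
    rw [Nat.card_eq_fintype_card, Nat.card_eq_fintype_card]
    exact Fintype.card_subtype_lt (x := (a, b)) hab
  rw [h4, Nat.card_prod] at this
  exact lt_irrefl _ this

/-- A normal `p`-subgroup is abelian if no irreducible character degree is divisible by `p`. -/
theorem abelian_of_normal_pgroup (p : ℕ) [Fact p.Prime] (P : Subgroup G) [P.Normal]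
    (hP : IsPGroup p P) (h : ∀ χ : IrrCharacter G, ¬ p ∣ charDegree (χ : G → ℂ)) :
    ∀ x ∈ P, ∀ y ∈ P, x * y = y * x := by
  have hlin : ∀ μ : IrrCharacter P, charDegree (μ : P → ℂ) = 1 := by
    intro μ
    have h1 := pprime_degree_normal p P h μ
    have h2 := Helper25.irr_degree_dvd_card μ
    obtain ⟨k, hk⟩ := hP.exists_card_eq
    rw [hk] at h2
    obtain ⟨j, -, hj⟩ := (Nat.dvd_prime_pow (Fact.out)).mp h2
    rcases Nat.eq_zero_or_pos j with h0 | h0
    · rw [hj, h0, pow_zero]
    · exact absurd (hj ▸ dvd_pow_self p h0.ne') h1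
  intro x hx y hy
  have := comm_of_all_linear hlin ⟨x, hx⟩ ⟨y, hy⟩
  exact congrArg Subtype.val this

/-- A normal `p`-subgroup of `p'`-index contains every `p`-subgroup. -/
theorem le_of_normal_pprime_index (p : ℕ) [Fact p.Prime] (P : Subgroup G) [P.Normal]
    (hidx : ¬ p ∣ P.index) (Q : Subgroup G) (hQ : IsPGroup p Q) : Q ≤ P := by
  intro x hx
  rw [← QuotientGroup.eq_one_iff (N := P)]
  obtain ⟨k, hk⟩ := hQ ⟨x, hx⟩
  have hk' : x ^ p ^ k = 1 := by
    have := congrArg Subtype.val hk
    simpa using this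
  have h1 : orderOf (x : G ⧸ P) ∣ p ^ k :=
    orderOf_dvd_of_pow_eq_one (by rw [← QuotientGroup.mk_pow, hk']; rfl)
  have h2 : orderOf (x : G ⧸ P) ∣ P.index := by
    rw [Subgroup.index_eq_card]; exact orderOf_dvd_natCard _
  obtain ⟨j, -, hj⟩ := (Nat.dvd_prime_pow Fact.out).mp h1
  rcases Nat.eq_zero_or_pos j with h0 | h0
  · rw [h0, pow_zero] at hj; exact orderOf_eq_one_iff.mp hj
  · exact absurd ((hj ▸ dvd_pow_self p h0.ne').trans h2) hidx

end Inherit

section Central

variable {G : Type u} [Group G] [Finite G]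

/-- If `A` is an abelian normal subgroup with `G/A` a `p`-group and no irreducible character
degree of `G` is divisible by `p`, then `A` is central. -/
theorem central_of_pgroup_quot (p : ℕ) [Fact p.Prime] (A : Subgroup G) [hA : A.Normal]
    (hab : ∀ a ∈ A, ∀ b ∈ A, a * b = b * a) (hq : IsPGroup p (G ⧸ A))
    (h : ∀ χ : IrrCharacter G, ¬ p ∣ charDegree (χ : G → ℂ)) : A ≤ Subgroup.center G := by
  classical
  letI := Fintype.ofFinite G
  letI : Fintype A := Fintype.ofFinite A
  have habA : ∀ a b : ↥A, a * b = b * a := fun a b => Subtype.ext (hab a a.2 b b.2)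
  have hinvar : ∀ (μ : ↥A →* ℂˣ) (g : G) (n : ↥A),
      μ ⟨g * n * g⁻¹, hA.conj_mem n n.2 g⟩ = μ n := by
    intro μ g n
    have hirr : IsIrrCharacter ↥A (fun a => ((μ a : ℂˣ) : ℂ)) := by
      have h1 := Cfsg.Agent.Helper7.isIrrCharacter_hom_mul μ _ (Helper25.trivChar (G := ↥A)).2
      have e : (fun a : ↥A => ((μ a : ℂˣ) : ℂ) * ((Helper25.trivChar (G := ↥A)) : ↥A → ℂ) a) =
          fun a => ((μ a : ℂˣ) : ℂ) := by
        funext a
        rw [Helper25.trivChar_apply, mul_one]
      rwa [e] at h1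
    obtain ⟨χ, hχ⟩ := exists_irr_over A (⟨_, hirr⟩ : IrrCharacter ↥A)
    obtain ⟨T, hT⟩ : ∃ T : Subgroup G,
        T = Cfsg.Agent.Helper7.inertia A (fun a : ↥A => ((μ a : ℂˣ) : ℂ)) := ⟨_, rfl⟩
    have hTmem : ∀ g : G, g ∈ T ↔ ∀ n : ↥A,
        (fun a : ↥A => ((μ a : ℂˣ) : ℂ)) ⟨g * n * g⁻¹, hA.conj_mem (n : G) n.2 g⟩ =
          (fun a : ↥A => ((μ a : ℂˣ) : ℂ)) n := by
      intro g
      rw [hT]
      exact Cfsg.Agent.Helper7.mem_inertia A _ g
    have hAT : A ≤ T := by
      intro t ht
      rw [hTmem]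
      intro n
      have e : (⟨t * (n : G) * t⁻¹, hA.conj_mem (n : G) n.2 t⟩ : ↥A) = n := by
        apply Subtype.ext
        have := hab t ht n n.2
        change t * (n : G) * t⁻¹ = n
        rw [this]
        group
      change ((μ ⟨t * (n : G) * t⁻¹, _⟩ : ℂˣ) : ℂ) = ((μ n : ℂˣ) : ℂ)
      rw [e]
    letI : Fintype T := Fintype.ofFinite T
    obtain ⟨ψ, hψ, hind, -⟩ := Cfsg.Agent.S0854.result A (fun a : ↥A => ((μ a : ℂˣ) : ℂ)) hirr T
      hTmem hAT (χ : G → ℂ) χ.2 hχ
    have hdeg : charDegree (χ : G → ℂ) = T.index * charDegree ψ := by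
      have h1 := Helper25.irr_one_eq_degree χ
      rw [← hind, Cfsg.Agent.Helper7.indFun_one,
        Helper25.char_one_eq_degree (Helper2.isCharacter_of_isIrrCharacter hψ)] at h1
      have h2 : (Nat.card G : ℂ) = (Nat.card T : ℂ) * (T.index : ℂ) := by
        rw [← Nat.cast_mul, Subgroup.card_mul_index]
      rw [h2] at h1
      have h3 : (Nat.card T : ℂ) ≠ 0 := Nat.cast_ne_zero.mpr Nat.card_pos.ne'
      have h4 : ((T.index * charDegree ψ : ℕ) : ℂ) = (charDegree (indFun T ψ) : ℂ) := by
        rw [← h1]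
        push_cast
        field_simp
      rw [← hind]
      exact (Nat.cast_injective h4).symm
    have hTidx : ¬ p ∣ T.index := fun hd => h χ (hdeg ▸ Dvd.dvd.mul_right hd _)
    have hTtop : T = ⊤ := by
      rw [← Subgroup.index_eq_one]
      have h1 : T.index ∣ A.index := Subgroup.index_dvd_of_le hAT
      obtain ⟨k, hk⟩ := hq.exists_card_eq
      rw [← Subgroup.index_eq_card] at hk
      rw [hk] at h1
      obtain ⟨j, -, hj⟩ := (Nat.dvd_prime_pow Fact.out).mp h1
      rcases Nat.eq_zero_or_pos j with h0 | h0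
      · rw [hj, h0, pow_zero]
      · exact absurd (hj ▸ dvd_pow_self p h0.ne') hTidx
    have hg : g ∈ T := hTtop ▸ Subgroup.mem_top g
    have := (hTmem g).mp hg n
    exact Units.ext this
  intro a ha
  rw [Subgroup.mem_center_iff]
  intro g
  by_contra hne
  have hb : (⟨g * a * g⁻¹, hA.conj_mem a ha g⟩ : ↥A) * (⟨a, ha⟩ : ↥A)⁻¹ ≠ 1 := by
    intro h1
    apply hne
    have h2 := congrArg Subtype.val h1
    simp only [Subgroup.coe_mul, Subgroup.coe_inv, Subgroup.coe_one] at h2
    have h3 : g * a * g⁻¹ = a := by rw [mul_inv_eq_one] at h2; exact h2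
    calc g * a = g * a * g⁻¹ * g := by group
      _ = a * g := by rw [h3]
  obtain ⟨μ, hμ⟩ := exists_hom_ne_one habA hb
  apply hμ
  rw [map_mul, map_inv, hinvar μ g ⟨a, ha⟩, mul_inv_cancel]

/-- A nontrivial finite solvable group has a nontrivial normal abelian `r`-subgroup. -/
theorem exists_normal_abelian_pgroup [Nontrivial G] (hG : Group.IsSolvable G) :
    ∃ (r : ℕ) (V : Subgroup G), r.Prime ∧ V.Normal ∧ V ≠ ⊥ ∧ IsPGroup r V ∧
      ∀ a ∈ V, ∀ b ∈ V, a * b = b * a := by
  classical
  have hex : ∃ n, derivedSeries G n = ⊥ := hG.solvable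
  have h0 : Nat.find hex ≠ 0 := by
    intro h0
    have := Nat.find_spec hex
    rw [h0, derivedSeries_zero] at this
    exact top_ne_bot this
  obtain ⟨k, hk⟩ := Nat.exists_eq_succ_of_ne_zero h0
  obtain ⟨A, hA⟩ : ∃ A : Subgroup G, A = derivedSeries G k := ⟨_, rfl⟩
  have hAn : A.Normal := hA ▸ derivedSeries_normal G k
  have hA1 : A ≠ ⊥ := by
    rw [hA]
    apply Nat.find_min hex
    omega
  have hAc : ∀ a ∈ A, ∀ b ∈ A, a * b = b * a := by
    have h1 := Nat.find_spec hex
    rw [hk, Nat.succ_eq_add_one, derivedSeries_succ,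
      Subgroup.commutator_eq_bot_iff_le_centralizer, ← hA] at h1
    intro a ha b hb
    have := h1 ha
    rw [Subgroup.mem_centralizer_iff] at this
    exact (this b hb).symm
  have hcard : Nat.card A ≠ 1 := by
    intro h; exact hA1 (Subgroup.card_eq_one.mp h)
  obtain ⟨p, hp, hpA⟩ := Nat.exists_prime_and_dvd hcard
  have : Fact p.Prime := ⟨hp⟩
  let V : Subgroup G :=
    { carrier := {a | a ∈ A ∧ a ^ p = 1}
      one_mem' := ⟨A.one_mem, one_pow p⟩
      mul_mem' := by
        rintro a b ⟨ha, hap⟩ ⟨hb, hbp⟩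
        refine ⟨A.mul_mem ha hb, ?_⟩
        have hc : Commute a b := hAc a ha b hb
        rw [hc.mul_pow, hap, hbp, one_mul]
      inv_mem' := by
        rintro a ⟨ha, hap⟩
        exact ⟨A.inv_mem ha, by rw [inv_pow, hap, inv_one]⟩ }
  refine ⟨p, V, hp, ?_, ?_, ?_, ?_⟩
  · constructor
    rintro a ⟨ha, hap⟩ g
    refine ⟨hAn.conj_mem a ha g, ?_⟩
    rw [conj_pow, hap]; simp
  · obtain ⟨x, hx⟩ := exists_prime_orderOf_dvd_card' p hpA
    intro hbot
    have hxV : (x : G) ∈ V := by
      refine ⟨x.2, ?_⟩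
      have := pow_orderOf_eq_one x
      rw [hx] at this
      have h2 := congrArg Subtype.val this
      simpa using h2
    rw [hbot, Subgroup.mem_bot] at hxV
    have hx1 : x = 1 := Subtype.ext hxV
    rw [hx1, orderOf_one] at hx
    exact hp.one_lt.ne hx
  · intro v
    refine ⟨1, ?_⟩
    apply Subtype.ext
    rw [pow_one]
    simpa using v.2.2
  · intro a ha b hb
    exact hAc a ha.1 b hb.1

end Central

section Main

/-- Ito (solvable case): if no irreducible character degree is divisible by `p`, then the finite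
solvable group `G` has a normal Sylow `p`-subgroup. -/
theorem exists_normal_sylow_of_pprime_degrees (p : ℕ) [Fact p.Prime] :
    ∀ (n : ℕ) (G : Type u) [Group G] [Finite G], Nat.card G = n → Group.IsSolvable G →
    (∀ χ : IrrCharacter G, ¬ p ∣ charDegree (χ : G → ℂ)) →
    ∃ P : Subgroup G, P.Normal ∧ IsPGroup p P ∧ ¬ p ∣ P.index := by
  intro n
  induction n using Nat.strong_induction_on with
  | _ n ih =>
  intro G _ _ hn hsolv hdeg
  by_cases hpG : p ∣ Nat.card G
  swap
  · exact ⟨⊥, inferInstance, IsPGroup.of_bot, by rwa [Subgroup.index_bot]⟩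
  haveI : Nontrivial G := by
    rw [← Finite.one_lt_card_iff_nontrivial]
    exact lt_of_lt_of_le (Fact.out : p.Prime).one_lt (Nat.le_of_dvd Nat.card_pos hpG)
  obtain ⟨r, A, hr, hAn, hA1, hAr, hAab⟩ := exists_normal_abelian_pgroup hsolv
  haveI := hAn
  haveI := hsolv
  haveI : Fact r.Prime := ⟨hr⟩
  have hcardQ : Nat.card (G ⧸ A) < n := by
    rw [← hn, Subgroup.card_eq_card_quotient_mul_card_subgroup A]
    have h1 : 1 < Nat.card A := by
      rw [Subgroup.one_lt_card_iff_ne_bot]; exact hA1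
    have h2 : 0 < Nat.card (G ⧸ A) := Nat.card_pos
    nlinarith
  obtain ⟨Pb, hPbn, hPbp, hPbi⟩ := ih _ hcardQ (G ⧸ A) rfl inferInstance
    (pprime_degree_quot p A hdeg)
  obtain ⟨H, hH⟩ : ∃ H : Subgroup G, H = Pb.comap (QuotientGroup.mk' A) := ⟨_, rfl⟩
  have hHn : H.Normal := hH ▸ hPbn.comap _
  have hHi : H.index = Pb.index := by
    rw [hH]; exact Subgroup.index_comap_of_surjective _ (QuotientGroup.mk'_surjective A)
  by_cases hrp : r = p
  · refine ⟨H, hHn, ?_, by rwa [hHi]⟩
    rw [hH]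
    apply hPbp.comap_of_ker_isPGroup
    rw [QuotientGroup.ker_mk']
    exact hrp ▸ hAr
  · by_cases hHtop : H = ⊤
    · have hq : IsPGroup p (G ⧸ A) := by
        intro q
        have hq' : q ∈ Pb := by
          obtain ⟨g, rfl⟩ := QuotientGroup.mk'_surjective A q
          have : g ∈ H := hHtop ▸ Subgroup.mem_top g
          rw [hH] at this
          exact this
        obtain ⟨k, hk⟩ := hPbp ⟨q, hq'⟩
        exact ⟨k, by have := congrArg Subtype.val hk; simpa using this⟩
      have hcent := central_of_pgroup_quot p A hAab hq hdeg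
      obtain ⟨P⟩ := (inferInstance : Nonempty (Sylow p G))
      have htop : A ⊔ (P : Subgroup G) = ⊤ := by
        rw [← Subgroup.index_eq_one]
        have h1 : (A ⊔ (P : Subgroup G)).index ∣ A.index := Subgroup.index_dvd_of_le le_sup_left
        have h2 : (A ⊔ (P : Subgroup G)).index ∣ (P : Subgroup G).index :=
          Subgroup.index_dvd_of_le le_sup_right
        obtain ⟨k, hk⟩ := hq.exists_card_eq
        rw [← Subgroup.index_eq_card] at hk
        rw [hk] at h1
        obtain ⟨j, -, hj⟩ := (Nat.dvd_prime_pow Fact.out).mp h1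
        rcases Nat.eq_zero_or_pos j with h0 | h0
        · rw [hj, h0, pow_zero]
        · exact absurd ((hj ▸ dvd_pow_self p h0.ne').trans h2) (Sylow.not_dvd_index P)
      refine ⟨P, ?_, P.isPGroup', Sylow.not_dvd_index P⟩
      constructor
      intro x hx g
      have hg : g ∈ ((A ⊔ (P : Subgroup G) : Subgroup G) : Set G) := by
        rw [htop]; exact Subgroup.mem_top g
      rw [Subgroup.normal_mul] at hg
      obtain ⟨a, ha, u, hu, rfl⟩ := Set.mem_mul.mp hg
      have hz : ∀ y : G, y * a = a * y := Subgroup.mem_center_iff.mp (hcent ha)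
      have e : a * u * x * (a * u)⁻¹ = u * x * u⁻¹ := by
        have h1 : a * u * x * (a * u)⁻¹ = a * (u * x * u⁻¹) * a⁻¹ := by group
        rw [h1, ← hz (u * x * u⁻¹)]
        group
      rw [e]
      exact (P : Subgroup G).mul_mem ((P : Subgroup G).mul_mem hu hx) ((P : Subgroup G).inv_mem hu)
    · have hcardH : Nat.card H < n := by
        rw [← hn]
        exact lt_of_le_of_ne (Subgroup.card_le_card_group H)
          (fun h => hHtop ((Subgroup.card_eq_iff_eq_top H).mp h))
      haveI := hHn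
      obtain ⟨P', hP'n, hP'p, hP'i⟩ := ih _ hcardH ↥H rfl inferInstance
        (pprime_degree_normal p H hdeg)
      haveI := hP'n
      refine ⟨P'.map H.subtype, ?_, hP'p.map _, ?_⟩
      · constructor
        rintro _ ⟨x, hx, rfl⟩ g
        have hgx : g * (x : G) * g⁻¹ ∈ H := hHn.conj_mem _ x.2 g
        refine ⟨⟨g * x * g⁻¹, hgx⟩, ?_, rfl⟩
        have hQ : IsPGroup p (((P'.map H.subtype).map (MulAut.conj g).toMonoidHom).subgroupOf H) :=
          ((hP'p.map _).map _).comap_subtype
        have hle := le_of_normal_pprime_index p P' hP'i _ hQ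
        apply hle
        rw [Subgroup.mem_subgroupOf]
        exact ⟨x, ⟨x, hx, rfl⟩, rfl⟩
      · rw [Subgroup.index_map_subtype]
        intro hd
        rcases (Nat.Prime.dvd_mul Fact.out).mp hd with h1 | h1
        · exact hP'i h1
        · exact hPbi (hHi ▸ h1)

end Main

end Cfsg.Agent.Helper24
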