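import Cfsg.Agent.Helper24.BSMain
import Cfsg.Agent.Helper11.CNSolv
import Cfsg.Agent.Helper22.Subnorm1

/-!
# A Baer–Suzuki type theorem for solvable groups: the reduction (helper24)

Prefix `h24bs`.  `h24bs_final`: in a finite solvable group, a `p`-subgroup `A` (`p` odd) which
is subnormal in `⟨A, A^g⟩` for some `g` in each conjugacy class lies in a normal `p`-subgroup.
-/

set_option autoImplicit false

namespace Cfsg.Agent.Helper24

universe u

open scoped commutatorElement
open Pointwise

/-- The main theorem for a group with a commutativity hypothesis. -/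
theorem h24bs_main' {p : ℕ} [Fact p.Prime] (hp2 : p ≠ 2) (W : Type u) [Group W] [Finite W]
    (hcomm : ∀ x y : W, x * y = y * x) (hW : (Nat.card W).Coprime p)
    (N Q : Subgroup (MulAut W)) (hQN : Q ≤ N) (hnorm : ∀ n ∈ N, ∀ q ∈ Q, n * q * n⁻¹ ∈ Q)
    (hQ : IsPGroup p Q) (a : MulAut W) (ha : a ∈ Q) (ha1 : a ≠ 1) :
    ∃ w : W, ∀ n ∈ N, (n * a * n⁻¹) w ≠ w := by
  letI : CommGroup W := { (inferInstance : Group W) with mul_comm := hcomm }
  exact h24bs_main hp2 (Nat.card W) W le_rfl hW N Q hQN hnorm hQ a ha ha1

/-- The working hypothesis. -/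
def h24bsHyp (p : ℕ) {G : Type u} [Group G] (A : Subgroup G) : Prop :=
  ∀ c : G, ∃ x : G, ∃ D : Subgroup G, IsPGroup p D ∧ A ≤ D ∧
    ∀ a ∈ A, (x * c * x⁻¹) * a * (x * c * x⁻¹)⁻¹ ∈ D

theorem h24bs_red {p : ℕ} [Fact p.Prime] (hp2 : p ≠ 2) :
    ∀ n : ℕ, ∀ (G : Type u) [Group G] [Finite G], Nat.card G ≤ n → Group.IsSolvable G →
      ∀ A : Subgroup G, IsPGroup p A → h24bsHyp p A →
      ∃ P : Subgroup G, P.Normal ∧ IsPGroup p P ∧ A ≤ P := by
  classical
  intro n
  induction n with
  | zero =>
    intro G _ _ hn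
    have := Nat.card_pos (α := G)
    omega
  | succ n ih =>
    intro G _ _ hn hsol A hA hyp
    haveI := hsol
    have hquot : ∀ V : Subgroup G, V.Normal → V ≠ ⊥ → ∃ R : Subgroup G, R.Normal ∧ A ≤ R ∧
        V ≤ R ∧ ∀ r ∈ R, ∃ k : ℕ, r ^ p ^ k ∈ V := by
      intro V hVn hV1
      haveI := hVn
      have hcard : Nat.card (G ⧸ V) ≤ n := by
        have h1 := Subgroup.card_eq_card_quotient_mul_card_subgroup V
        have h2 : 2 ≤ Nat.card V := by
          by_contra hcon
          push Not at hcon
          have h0 : 0 < Nat.card V := Nat.card_pos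
          exact hV1 (Subgroup.eq_bot_of_card_eq V (by omega))
        have h3 : 0 < Nat.card (G ⧸ V) := Nat.card_pos
        have h4 : Nat.card (G ⧸ V) * 2 ≤ n + 1 :=
          calc Nat.card (G ⧸ V) * 2 ≤ Nat.card (G ⧸ V) * Nat.card V := Nat.mul_le_mul_left _ h2
            _ = Nat.card G := h1.symm
            _ ≤ n + 1 := hn
        omega
      obtain ⟨P, hPn, hPp, hAP⟩ := ih (G ⧸ V) hcard inferInstance
        (A.map (QuotientGroup.mk' V)) (hA.map _) (by
          intro c'
          obtain ⟨c, rfl⟩ := QuotientGroup.mk'_surjective V c'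
          obtain ⟨x, D, hD, hAD, hconj⟩ := hyp c
          refine ⟨QuotientGroup.mk' V x, D.map (QuotientGroup.mk' V), hD.map _,
            Subgroup.map_mono hAD, ?_⟩
          rintro _ ⟨a, ha, rfl⟩
          refine ⟨_, hconj a ha, ?_⟩
          simp)
      refine ⟨P.comap (QuotientGroup.mk' V), hPn.comap _, ?_, ?_, ?_⟩
      · intro a ha
        exact hAP (Subgroup.mem_map_of_mem _ ha)
      · intro v hv
        rw [Subgroup.mem_comap]
        have : QuotientGroup.mk' V v = 1 := (QuotientGroup.eq_one_iff v).mpr hv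
        rw [this]; exact one_mem _
      · intro r hr
        obtain ⟨k, hk⟩ := hPp ⟨QuotientGroup.mk' V r, hr⟩
        refine ⟨k, ?_⟩
        have hk' : (QuotientGroup.mk' V r) ^ p ^ k = 1 := by
          simpa using congrArg Subtype.val hk
        rw [← map_pow] at hk'
        exact (QuotientGroup.eq_one_iff _).mp hk'
    by_cases hcore : ∃ P₀ : Subgroup G, P₀.Normal ∧ IsPGroup p P₀ ∧ P₀ ≠ ⊥
    · obtain ⟨P₀, hP₀n, hP₀p, hP₀1⟩ := hcore
      obtain ⟨R, hRn, hAR, -, hR⟩ := hquot P₀ hP₀n hP₀1
      refine ⟨R, hRn, ?_, hAR⟩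
      rintro ⟨r, hr⟩
      obtain ⟨k, hk⟩ := hR r hr
      obtain ⟨j, hj⟩ := hP₀p ⟨_, hk⟩
      refine ⟨k + j, Subtype.ext ?_⟩
      have hj' : (r ^ p ^ k) ^ p ^ j = 1 := by simpa using congrArg Subtype.val hj
      show r ^ p ^ (k + j) = 1
      rw [pow_add, pow_mul]; exact hj'
    · push Not at hcore
      refine ⟨⊥, inferInstance, IsPGroup.of_bot, ?_⟩
      intro a haA
      rw [Subgroup.mem_bot]
      by_contra ha1
      obtain ⟨m, hm⟩ := (Group.isSolvable_def G).mp hsol
      have hex : ∃ m, derivedSeries G m = ⊥ := ⟨m, hm⟩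
      have hfind := Nat.find_spec hex
      have hmin := fun j (h : j < Nat.find hex) => Nat.find_min hex h
      rcases hm0 : Nat.find hex with _ | m'
      · rw [hm0] at hfind
        have : a ∈ (⊥ : Subgroup G) := by rw [← hfind]; exact Subgroup.mem_top a
        exact ha1 (Subgroup.mem_bot.mp this)
      · rw [hm0] at hfind
        have hV₀n : (derivedSeries G m').Normal := derivedSeries_normal G m'
        haveI := hV₀n
        have hV₀1 : derivedSeries G m' ≠ ⊥ := hmin m' (by rw [hm0]; exact Nat.lt_succ_self m')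
        have hV₀ab : ∀ x ∈ derivedSeries G m', ∀ y ∈ derivedSeries G m', x * y = y * x := by
          intro x hx y hy
          have h1 : ⁅x, y⁆ ∈ derivedSeries G (m' + 1) :=
            Subgroup.commutator_mem_commutator hx hy
          rw [hfind] at h1
          exact commutatorElement_eq_one_iff_mul_comm.mp (Subgroup.mem_bot.mp h1)
        have hcop : (Nat.card (derivedSeries G m')).Coprime p := by
          rw [Nat.coprime_comm, Nat.Prime.coprime_iff_not_dvd (Fact.out : p.Prime)]
          intro hdvd
          obtain ⟨⟨v, hv⟩, hord⟩ := exists_prime_orderOf_dvd_card' p hdvd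
          let P₁ : Subgroup G :=
            { carrier := {x | x ∈ derivedSeries G m' ∧ x ^ p = 1}
              mul_mem' := by
                rintro x y ⟨hx, hxp⟩ ⟨hy, hyp'⟩
                exact ⟨mul_mem hx hy, by
                  rw [(show Commute x y from hV₀ab x hx y hy).mul_pow, hxp, hyp', mul_one]⟩
              one_mem' := ⟨one_mem _, one_pow _⟩
              inv_mem' := by
                rintro x ⟨hx, hxp⟩
                exact ⟨inv_mem hx, by rw [inv_pow, hxp, inv_one]⟩ }
          have hP₁n : P₁.Normal :=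
            ⟨fun x hx g => ⟨hV₀n.conj_mem x hx.1 g, by
              rw [conj_pow, hx.2, mul_one, mul_inv_cancel]⟩⟩
          have hP₁p : IsPGroup p P₁ := by
            rintro ⟨x, hx⟩
            exact ⟨1, Subtype.ext (by simpa using hx.2)⟩
          have hP₁ := hcore P₁ hP₁n hP₁p
          have hvP : v ∈ P₁ := ⟨hv, by
            have := pow_orderOf_eq_one (⟨v, hv⟩ : derivedSeries G m')
            rw [hord] at this
            simpa using congrArg Subtype.val this⟩
          rw [hP₁, Subgroup.mem_bot] at hvP
          have h1 : (⟨v, hv⟩ : derivedSeries G m') = 1 := Subtype.ext hvP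
          rw [h1, orderOf_one] at hord
          exact (Fact.out : p.Prime).one_lt.ne hord
        obtain ⟨R, hRn, hAR, hV₀R, hR⟩ := hquot _ hV₀n hV₀1
        haveI := hRn
        let ρ : G →* MulAut (derivedSeries G m') := MulAut.conjNormal
        have hρ : ∀ (g : G) (v : derivedSeries G m'), ((ρ g) v : G) = g * v * g⁻¹ :=
          fun g v => MulAut.conjNormal_apply g v
        have hρV : ∀ v ∈ derivedSeries G m', ρ v = 1 := by
          intro v hv
          apply MulEquiv.ext
          intro w
          apply Subtype.ext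
          rw [hρ]
          show v * w * v⁻¹ = w
          rw [hV₀ab v hv w w.2, mul_inv_cancel_right]
        by_cases hρa : ρ a = 1
        · let X : Subgroup G := R ⊓ Subgroup.centralizer (derivedSeries G m' : Set G)
          haveI : (Subgroup.centralizer (derivedSeries G m' : Set G)).Normal :=
            Subgroup.normal_centralizer
          have hXn : X.Normal := Subgroup.normal_inf_normal _ _
          haveI := hXn
          have haX : a ∈ X := by
            refine Subgroup.mem_inf.mpr ⟨hAR haA, ?_⟩
            rw [Subgroup.mem_centralizer_iff]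
            intro v hv
            have h1 := hρ a ⟨v, hv⟩
            rw [hρa] at h1
            have h2 : v = a * v * a⁻¹ := h1
            calc v * a = a * v * a⁻¹ * a := by rw [← h2]
              _ = a * v := by group
          have hXnil : Group.IsNilpotent X := by
            let f : X →* G ⧸ derivedSeries G m' :=
              (QuotientGroup.mk' (derivedSeries G m')).comp X.subtype
            have hker : f.rangeRestrict.ker ≤ Subgroup.center X := by
              intro x hx
              rw [MonoidHom.ker_rangeRestrict, MonoidHom.mem_ker] at hx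
              have hxV : (x : G) ∈ derivedSeries G m' := (QuotientGroup.eq_one_iff _).mp hx
              rw [Subgroup.mem_center_iff]
              intro y
              apply Subtype.ext
              have hy : (y : G) ∈ Subgroup.centralizer (derivedSeries G m' : Set G) :=
                (Subgroup.mem_inf.mp y.2).2
              rw [Subgroup.mem_centralizer_iff] at hy
              exact (hy _ hxV).symm
            haveI : Group.IsNilpotent f.range := by
              apply IsPGroup.isNilpotent (p := p)
              rintro ⟨_, ⟨x, rfl⟩⟩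
              obtain ⟨k, hk⟩ := hR x x.2.1
              refine ⟨k, Subtype.ext ?_⟩
              show (f x) ^ p ^ k = 1
              rw [← map_pow]
              exact (QuotientGroup.eq_one_iff _).mpr hk
            exact Subgroup.isNilpotent_of_ker_le_center f.rangeRestrict hker
          obtain ⟨R', hR'n, -, hR'p, hR'all⟩ :=
            Cfsg.Agent.Helper11.normal_pElts_of_normal_nilpotent X hXnil p
          obtain ⟨k, hk⟩ := hA ⟨a, haA⟩
          have hk' : a ^ p ^ k = 1 := by simpa using congrArg Subtype.val hk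
          have haR' := hR'all a haX k hk'
          rw [hcore R' hR'n hR'p, Subgroup.mem_bot] at haR'
          exact ha1 haR'
        · have hQq : IsPGroup p (R.map ρ) := by
            rintro ⟨_, ⟨r, hr, rfl⟩⟩
            obtain ⟨k, hk⟩ := hR r hr
            refine ⟨k, Subtype.ext ?_⟩
            show (ρ r) ^ p ^ k = 1
            rw [← map_pow]; exact hρV _ hk
          obtain ⟨w, hw⟩ := h24bs_main' hp2 (derivedSeries G m')
            (fun x y => Subtype.ext (hV₀ab x x.2 y y.2)) hcop ρ.range (R.map ρ)
            (Subgroup.map_le_range ρ R)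
            (by
              rintro _ ⟨g, rfl⟩ _ ⟨r, hr, rfl⟩
              exact ⟨g * r * g⁻¹, hRn.conj_mem r hr g, by simp⟩)
            hQq (ρ a) (Subgroup.mem_map_of_mem ρ (hAR haA)) hρa
          obtain ⟨x, D, hD, hAD, hconj⟩ := hyp (w : G)
          have hgV : x * w * x⁻¹ ∈ derivedSeries G m' := hV₀n.conj_mem w w.2 x
          have huD : x * w * x⁻¹ * a * (x * w * x⁻¹)⁻¹ * a⁻¹ ∈ D :=
            mul_mem (hconj a haA) (inv_mem (hAD haA))
          have huV : x * w * x⁻¹ * a * (x * w * x⁻¹)⁻¹ * a⁻¹ ∈ derivedSeries G m' := by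
            have h1 : a * (x * w * x⁻¹)⁻¹ * a⁻¹ ∈ derivedSeries G m' :=
              hV₀n.conj_mem _ (inv_mem hgV) a
            have h2 : x * w * x⁻¹ * a * (x * w * x⁻¹)⁻¹ * a⁻¹
                = x * w * x⁻¹ * (a * (x * w * x⁻¹)⁻¹ * a⁻¹) := by group
            rw [h2]; exact mul_mem hgV h1
          have hu1 : x * w * x⁻¹ * a * (x * w * x⁻¹)⁻¹ * a⁻¹ = 1 := by
            obtain ⟨k, hk⟩ := hD ⟨_, huD⟩
            have hk' : (x * w * x⁻¹ * a * (x * w * x⁻¹)⁻¹ * a⁻¹) ^ p ^ k = 1 := by
              simpa using congrArg Subtype.val hk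
            have h1 : orderOf (⟨_, huV⟩ : derivedSeries G m') ∣ p ^ k :=
              orderOf_dvd_of_pow_eq_one (Subtype.ext (by simpa using hk'))
            have h2 : orderOf (⟨_, huV⟩ : derivedSeries G m') ∣ Nat.card (derivedSeries G m') :=
              orderOf_dvd_natCard _
            have h3 := Nat.dvd_gcd h2 h1
            rw [Nat.Coprime.gcd_eq_one (Nat.Coprime.pow_right k hcop)] at h3
            have h4 := orderOf_eq_one_iff.mp (Nat.dvd_one.mp h3)
            exact congrArg Subtype.val h4
          have hag : x * w * x⁻¹ * a = a * (x * w * x⁻¹) := by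
            rw [mul_inv_eq_one] at hu1
            calc x * w * x⁻¹ * a = x * w * x⁻¹ * a * (x * w * x⁻¹)⁻¹ * (x * w * x⁻¹) := by group
              _ = a * (x * w * x⁻¹) := by rw [hu1]
          apply hw (ρ x⁻¹) ⟨x⁻¹, rfl⟩
          apply Subtype.ext
          rw [← map_inv, ← map_mul, ← map_mul, hρ]
          have e : x⁻¹ * a * x⁻¹⁻¹ * (w : G) * (x⁻¹ * a * x⁻¹⁻¹)⁻¹
              = x⁻¹ * (a * (x * w * x⁻¹) * a⁻¹) * x := by group
          rw [e, ← hag]
          group

/-- The final theorem, in the form of the statement. -/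
theorem h24bs_final {G : Type u} [Group G] [Finite G] (hG : Group.IsSolvable G) (p : ℕ)
    [Fact p.Prime] (hp : p ≠ 2) (A : Subgroup G) (hA : IsPGroup p A)
    (h : ∀ c : G, ∃ g : G, IsConj c g ∧ (A.subgroupOf (A ⊔ MulAut.conj g • A)).IsSubnormal) :
    ∃ P : Subgroup G, P.Normal ∧ IsPGroup p P ∧ A ≤ P := by
  have hyp : h24bsHyp p A := by
    intro c
    obtain ⟨g, hcg, hsn⟩ := h c
    obtain ⟨x, hx⟩ := isConj_iff.mp hcg
    have hK : IsPGroup p (A.subgroupOf (A ⊔ MulAut.conj g • A)) := hA.comap_subtype
    obtain ⟨Nn, hNn, hNp, hle⟩ :=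
      Cfsg.Agent.Helper22.exists_normal_pgroup_of_isSubnormal p _ hK hsn
    have hN''le : Nn.map (A ⊔ MulAut.conj g • A).subtype ≤ A ⊔ MulAut.conj g • A :=
      Subgroup.map_subtype_le Nn
    have hN''p : IsPGroup p (Nn.map (A ⊔ MulAut.conj g • A).subtype) := hNp.map _
    have hAN'' : A ≤ Nn.map (A ⊔ MulAut.conj g • A).subtype := by
      intro a ha
      exact ⟨⟨a, Subgroup.mem_sup_left ha⟩, hle (Subgroup.mem_subgroupOf.mpr ha), rfl⟩
    have hnormal : ((Nn.map (A ⊔ MulAut.conj g • A).subtype).subgroupOf
        (A ⊔ MulAut.conj g • A)).Normal := by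
      show ((Nn.map (A ⊔ MulAut.conj g • A).subtype).comap (A ⊔ MulAut.conj g • A).subtype).Normal
      rw [Subgroup.comap_map_eq_self_of_injective (Subgroup.subtype_injective _)]
      exact hNn
    have hnorm : A ⊔ MulAut.conj g • A
        ≤ Subgroup.normalizer (Nn.map (A ⊔ MulAut.conj g • A).subtype : Set G) :=
      (Subgroup.normal_subgroupOf_iff_le_normalizer hN''le).mp hnormal
    have hAg : IsPGroup p (MulAut.conj g • A : Subgroup G) := by
      rw [Subgroup.pointwise_smul_def]
      exact hA.map _
    refine ⟨x, Nn.map (A ⊔ MulAut.conj g • A).subtype ⊔ MulAut.conj g • A,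
      IsPGroup.to_sup_of_normal_left' hN''p hAg (le_sup_right.trans hnorm),
      le_trans hAN'' le_sup_left, ?_⟩
    intro a ha
    rw [hx]
    exact Subgroup.mem_sup_right (Subgroup.smul_mem_pointwise_smul a (MulAut.conj g) A ha)
  exact h24bs_red hp (Nat.card G) G le_rfl hG A hA hyp

end Cfsg.Agent.Helper24
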