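import Mathlib
import Cfsg.Agent.Helper25.BlockBrauer

/-!
# Degrees and the `p`-regular Gram matrix (helper24)

With `a` the exponent of `p` in `|G|` and `c χ ψ = p^a ⟨χ⁰, ψ⟩ ∈ ℤ`:

* `lr_gram_div`: `c χ ψ / ψ(1)` is a local integer.
* `li_gram_div_sub`: `c χ ψ₁ / ψ₁(1) ≡ c χ ψ₂ / ψ₂(1)` modulo the local ideal when `ψ₁, ψ₂` lie in
  the same block.
* `gram_symm`, `gram_self_bounds`, `li_intCast_iff`, `dvd_of_lr_div_int`.
-/

set_option autoImplicit false

namespace Cfsg.Agent.Helper24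

open Cfsg Cfsg.Agent.Helper25
open scoped ComplexConjugate

universe u

variable {G : Type u} [Group G] {p : ℕ} {M : Ideal AlgInt}

theorem centralizer_inv_eq (x : G) :
    Subgroup.centralizer ({x⁻¹} : Set G) = Subgroup.centralizer ({x} : Set G) := by
  ext y
  rw [Subgroup.mem_centralizer_singleton_iff, Subgroup.mem_centralizer_singleton_iff]
  exact Commute.inv_right_iff (a := y) (b := x)

theorem li_intCast_iff (hM : IsPModular p M) (n : ℤ) :
    MemLocalIdeal M (n : ℂ) ↔ (p : ℤ) ∣ n := by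
  rw [Int.natCast_dvd, ← li_natCast_iff hM]
  rcases Int.natAbs_eq n with h | h
  · have e : (n : ℂ) = ((n.natAbs : ℕ) : ℂ) := by
      rw [← Int.cast_natCast, ← h]
    rw [e]
  · have e : (n : ℂ) = -((n.natAbs : ℕ) : ℂ) := by
      rw [← Int.cast_natCast, ← Int.cast_neg, ← h]
    rw [e]
    constructor
    · intro h'
      have := li_neg h'
      rwa [neg_neg] at this
    · intro h'
      exact li_neg h'

theorem dvd_of_lr_div_int (hM : IsPModular p M) (k : ℤ) (b : ℕ)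
    (h : MemLocalRing M ((k : ℂ) / (p : ℂ) ^ b)) : (p : ℤ) ^ b ∣ k := by
  have h1 : MemLocalRing M (((k.natAbs : ℕ) : ℂ) / (p : ℂ) ^ b) := by
    rcases Int.natAbs_eq k with h' | h'
    · have e : (k : ℂ) = ((k.natAbs : ℕ) : ℂ) := by
        rw [← Int.cast_natCast, ← h']
      rwa [e] at h
    · have e : ((k.natAbs : ℕ) : ℂ) = -(k : ℂ) := by
        have : (k : ℂ) = -((k.natAbs : ℕ) : ℂ) := by
          rw [← Int.cast_natCast, ← Int.cast_neg, ← h']
        rw [this, neg_neg]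
      rw [e, neg_div]
      exact lr_neg h
  have h2 := dvd_of_lr_div hM k.natAbs b h1
  have h3 : ((p ^ b : ℕ) : ℤ) ∣ k := Int.natCast_dvd.mpr h2
  simpa using h3

theorem pow_mul_card_inv [Finite G] (hp : p.Prime) :
    ((p ^ (Nat.card G).factorization p : ℕ) : ℂ) * (Nat.card G : ℂ)⁻¹ =
      ((Nat.card G / p ^ (Nat.card G).factorization p : ℕ) : ℂ)⁻¹ := by
  have h1 : p ^ (Nat.card G).factorization p * (Nat.card G / p ^ (Nat.card G).factorization p) =
      Nat.card G := Nat.ordProj_mul_ordCompl_eq_self (Nat.card G) p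
  have h2 : (Nat.card G : ℂ) = ((p ^ (Nat.card G).factorization p : ℕ) : ℂ) *
      ((Nat.card G / p ^ (Nat.card G).factorization p : ℕ) : ℂ) := by
    exact_mod_cast h1.symm
  have h3 : ((p ^ (Nat.card G).factorization p : ℕ) : ℂ) ≠ 0 := by
    exact_mod_cast (pow_pos hp.pos _).ne'
  have h4 : ((Nat.card G / p ^ (Nat.card G).factorization p : ℕ) : ℂ) ≠ 0 := by
    intro h0
    rw [h0, mul_zero] at h2
    exact card_ne_zero h2
  rw [h2]
  field_simp

theorem bil_div_eq [Fintype G] (hp : p.Prime) (φ ψ : G → ℂ) :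
    ((p ^ (Nat.card G).factorization p : ℕ) : ℂ) * bil φ ψ / ψ 1 =
      ((Nat.card G / p ^ (Nat.card G).factorization p : ℕ) : ℂ)⁻¹ *
        ∑ x : G, φ x * (ψ x⁻¹ / ψ 1) := by
  have h1 : ∑ x : G, φ x * (ψ x⁻¹ / ψ 1) = (∑ x : G, φ x * ψ x⁻¹) / ψ 1 := by
    rw [Finset.sum_div]
    apply Finset.sum_congr rfl
    intro x _
    ring
  rw [h1, ← pow_mul_card_inv hp]
  unfold bil
  ring

theorem lr_bil_div [Fintype G] (hM : IsPModular p M) (φ : G → ℂ)
    (hφ : ∀ g x : G, φ (x * g * x⁻¹) = φ g) (hφlr : ∀ x, MemLocalRing M (φ x))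
    (ψ : IrrCharacter G) :
    MemLocalRing M (((p ^ (Nat.card G).factorization p : ℕ) : ℂ) * bil φ (ψ : G → ℂ) /
      (ψ : G → ℂ) 1) := by
  have hp := hM.1
  rw [bil_div_eq hp]
  apply lr_mul hM (lr_natCast_inv hM (Nat.not_dvd_ordCompl hp Nat.card_pos.ne'))
  apply lr_sum_classFun hM
  · intro g x
    have h1 : (x * g * x⁻¹)⁻¹ = x * g⁻¹ * x⁻¹ := by group
    rw [hφ, h1, irr_conj]
  · intro g
    have h1 : ((Subgroup.centralizer ({g} : Set G)).index : ℂ) *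
        (φ g * ((ψ : G → ℂ) g⁻¹ / (ψ : G → ℂ) 1)) = φ g * centralChar (ψ : G → ℂ) g⁻¹ := by
      unfold centralChar
      rw [centralizer_inv_eq]
      ring
    rw [h1]
    exact lr_mul hM (hφlr g) (lr_of_isIntegral hM (centralChar_isIntegral ψ g⁻¹))

theorem li_bil_div_sub [Fintype G] (hM : IsPModular p M) (φ : G → ℂ)
    (hφ : ∀ g x : G, φ (x * g * x⁻¹) = φ g) (hφlr : ∀ x, MemLocalRing M (φ x))
    (ψ₁ ψ₂ : IrrCharacter G) (h : SameBlock M (ψ₁ : G → ℂ) (ψ₂ : G → ℂ)) :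
    MemLocalIdeal M
      (((p ^ (Nat.card G).factorization p : ℕ) : ℂ) * bil φ (ψ₁ : G → ℂ) / (ψ₁ : G → ℂ) 1 -
        ((p ^ (Nat.card G).factorization p : ℕ) : ℂ) * bil φ (ψ₂ : G → ℂ) / (ψ₂ : G → ℂ) 1) := by
  have hp := hM.1
  rw [bil_div_eq hp, bil_div_eq hp, ← mul_sub, ← Finset.sum_sub_distrib]
  apply lr_mul_li hM (lr_natCast_inv hM (Nat.not_dvd_ordCompl hp Nat.card_pos.ne'))
  apply li_sum_classFun hM
  · intro g x
    have h1 : (x * g * x⁻¹)⁻¹ = x * g⁻¹ * x⁻¹ := by group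
    rw [hφ, h1, irr_conj, irr_conj]
  · intro g
    have h1 : ((Subgroup.centralizer ({g} : Set G)).index : ℂ) *
        (φ g * ((ψ₁ : G → ℂ) g⁻¹ / (ψ₁ : G → ℂ) 1) - φ g * ((ψ₂ : G → ℂ) g⁻¹ / (ψ₂ : G → ℂ) 1)) =
        φ g * (centralChar (ψ₁ : G → ℂ) g⁻¹ - centralChar (ψ₂ : G → ℂ) g⁻¹) := by
      unfold centralChar
      rw [centralizer_inv_eq]
      ring
    rw [h1]
    exact lr_mul_li hM (hφlr g) (h g⁻¹)

theorem lr_pRegularPart [Finite G] (hM : IsPModular p M) (χ : IrrCharacter G) (x : G) :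
    MemLocalRing M (pRegularPart p (χ : G → ℂ) x) := by
  by_cases h : p ∣ orderOf x
  · rw [pRegularPart_of_sing h]
    exact lr_zero hM
  · rw [pRegularPart_of_reg h]
    exact lr_of_isIntegral hM (irr_isIntegral χ x)

/-- `p^a ⟨χ⁰, ψ⟩ / ψ(1)` is a local integer. -/
theorem lr_gram_div [Fintype G] (hM : IsPModular p M) (χ ψ : IrrCharacter G) :
    MemLocalRing M (((p ^ (Nat.card G).factorization p : ℕ) : ℂ) *
      gram p (χ : G → ℂ) (ψ : G → ℂ) / (ψ : G → ℂ) 1) :=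
  lr_bil_div hM _ (pRegularPart_conj (irr_conj χ)) (lr_pRegularPart hM χ) ψ

/-- `p^a ⟨χ⁰, ψ⟩ / ψ(1)` only depends on the block of `ψ`, modulo the local ideal. -/
theorem li_gram_div_sub [Fintype G] (hM : IsPModular p M) (χ ψ₁ ψ₂ : IrrCharacter G)
    (h : SameBlock M (ψ₁ : G → ℂ) (ψ₂ : G → ℂ)) :
    MemLocalIdeal M
      (((p ^ (Nat.card G).factorization p : ℕ) : ℂ) * gram p (χ : G → ℂ) (ψ₁ : G → ℂ) /
          (ψ₁ : G → ℂ) 1 -
        ((p ^ (Nat.card G).factorization p : ℕ) : ℂ) * gram p (χ : G → ℂ) (ψ₂ : G → ℂ) /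
          (ψ₂ : G → ℂ) 1) :=
  li_bil_div_sub hM _ (pRegularPart_conj (irr_conj χ)) (lr_pRegularPart hM χ) ψ₁ ψ₂ h

theorem gram_symm [Fintype G] (hp : p.Prime) (χ ψ : IrrCharacter G) :
    gram p (ψ : G → ℂ) (χ : G → ℂ) = gram p (χ : G → ℂ) (ψ : G → ℂ) := by
  rw [gram_conj χ ψ]
  obtain ⟨k, hk⟩ := gram_int hp χ ψ
  have hne : ((p ^ (Nat.card G).factorization p : ℕ) : ℂ) ≠ 0 := by
    exact_mod_cast (pow_pos hp.pos _).ne'
  have h1 : gram p (χ : G → ℂ) (ψ : G → ℂ) =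
      (k : ℂ) / ((p ^ (Nat.card G).factorization p : ℕ) : ℂ) := by
    rw [← hk]
    field_simp
  rw [h1, map_div₀, Complex.conj_natCast]
  congr 1
  exact Complex.conj_eq_iff_im.mpr (by simp)

theorem gram_self_bounds [Fintype G] (hp : p.Prime) (χ : IrrCharacter G) :
    ∃ ρ : ℝ, gram p (χ : G → ℂ) (χ : G → ℂ) = (ρ : ℂ) ∧ 0 < ρ ∧ ρ ≤ 1 ∧
      (ρ = 1 → ∀ y : G, p ∣ orderOf y → (χ : G → ℂ) y = 0) := by
  classical
  set f : G → ℝ := fun x => if p ∣ orderOf x then 0 else Complex.normSq ((χ : G → ℂ) x) with hf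
  set g : G → ℝ := fun x => Complex.normSq ((χ : G → ℂ) x) with hg
  have hcard : (0 : ℝ) < (Nat.card G : ℝ) := by exact_mod_cast Nat.card_pos
  have hfg : ∀ x, f x ≤ g x := by
    intro x
    simp only [hf, hg]
    split_ifs
    · exact Complex.normSq_nonneg _
    · exact le_rfl
  have hf0 : ∀ x, 0 ≤ f x := by
    intro x
    simp only [hf]
    split_ifs
    · exact le_rfl
    · exact Complex.normSq_nonneg _
  have hgsum : (Nat.card G : ℝ)⁻¹ * ∑ x : G, g x = 1 := by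
    have h1 := irr_bil χ χ
    rw [if_pos rfl] at h1
    unfold bil at h1
    have h2 : ∀ x : G, (χ : G → ℂ) x * (χ : G → ℂ) x⁻¹ = ((g x : ℝ) : ℂ) := by
      intro x
      rw [irr_inv, Complex.mul_conj]
    rw [Finset.sum_congr rfl (fun x _ => h2 x)] at h1
    have h3 : (((Nat.card G : ℝ)⁻¹ * ∑ x : G, g x : ℝ) : ℂ) = ((1 : ℝ) : ℂ) := by
      push_cast
      exact h1
    exact Complex.ofReal_injective h3
  refine ⟨(Nat.card G : ℝ)⁻¹ * ∑ x : G, f x, ?_, ?_, ?_, ?_⟩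
  · rw [gram_eq]
    push_cast
    congr 1
    apply Finset.sum_congr rfl
    intro x _
    simp only [hf]
    by_cases h : p ∣ orderOf x
    · rw [pRegularPart_of_sing h, if_pos h]
      simp
    · rw [pRegularPart_of_reg h, if_neg h, irr_inv, Complex.mul_conj]
  · apply mul_pos (inv_pos.mpr hcard)
    apply Finset.sum_pos' (fun x _ => hf0 x)
    refine ⟨1, Finset.mem_univ _, ?_⟩
    have h1 : ¬ p ∣ orderOf (1 : G) := by
      rw [orderOf_one]
      exact hp.one_lt.ne' ∘ Nat.dvd_one.mp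
    simp only [hf, if_neg h1]
    exact Complex.normSq_pos.mpr (irr_one_ne_zero χ)
  · rw [← hgsum]
    exact mul_le_mul_of_nonneg_left (Finset.sum_le_sum (fun x _ => hfg x))
      (inv_pos.mpr hcard).le
  · intro h1 y hy
    have h2 : ∑ x : G, (g x - f x) = 0 := by
      rw [Finset.sum_sub_distrib]
      have h3 : (Nat.card G : ℝ)⁻¹ * ∑ x : G, g x = (Nat.card G : ℝ)⁻¹ * ∑ x : G, f x := by
        rw [hgsum, h1]
      have h4 := mul_left_cancel₀ (inv_pos.mpr hcard).ne' h3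
      rw [h4, sub_self]
    have h3 := (Finset.sum_eq_zero_iff_of_nonneg (fun x _ => sub_nonneg.mpr (hfg x))).mp h2 y
      (Finset.mem_univ _)
    simp only [hf, hg, if_pos hy, sub_zero] at h3
    exact Complex.normSq_eq_zero.mp h3

end Cfsg.Agent.Helper24
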