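import Mathlib
import Cfsg.Prelude
import Cfsg.Agent.Helper24.BlockDeg
import Cfsg.Agent.Helper25.BlockOrth
import Cfsg.Agent.S0876

/-!
# Blocks and values on `p`-regular elements

* `mem_block_of_eq_on_reg`: two irreducible characters that agree on the `p`-regular elements lie
  in the same block.
* `even_card_odd_degree`: a `2`-block of a group of even order contains an even number of
  characters of odd degree.
* `exists_pow_pow_fix`: if `g ^ k = g ^ 3` on `2`-elements and `g ^ k = g` on elements of odd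
  order, then `g ↦ g ^ k` has `2`-power order.
-/

namespace Cfsg.Agent.Helper24

open Cfsg Cfsg.Agent.Helper25

universe u

variable {G : Type u} [Group G] {p : ℕ} {M : Ideal AlgInt}

theorem mem_block_of_eq_on_reg [Finite G] (hM : IsPModular p M) {B : Set (IrrCharacter G)}
    (hB : IsPBlock M B) {χ ψ : IrrCharacter G} (hχ : χ ∈ B)
    (h : ∀ g : G, ¬ p ∣ orderOf g → (ψ : G → ℂ) g = (χ : G → ℂ) g) : ψ ∈ B := by
  classical
  haveI := Fintype.ofFinite G
  by_contra hψ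
  have h1 := gram_eq_zero_of_lr hM B (fun g => blockCoeff_lr hM hB g) hχ hψ
  have h2 : pRegularPart p (χ : G → ℂ) = pRegularPart p (ψ : G → ℂ) := by
    funext g
    by_cases hg : p ∣ orderOf g
    · rw [pRegularPart_of_sing hg, pRegularPart_of_sing hg]
    · rw [pRegularPart_of_reg hg, pRegularPart_of_reg hg, h g hg]
  have h3 : gram p (χ : G → ℂ) (ψ : G → ℂ) = gram p (ψ : G → ℂ) (ψ : G → ℂ) := by
    rw [gram_eq, gram_eq, h2]
  obtain ⟨ρ, hρ, hpos, -, -⟩ := gram_self_bounds hM.1 ψ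
  rw [h3, hρ] at h1
  have : ρ = 0 := by exact_mod_cast h1
  linarith

theorem even_card_odd_degree [Finite G] (hM : IsPModular 2 M) {B : Set (IrrCharacter G)}
    (hB : IsPBlock M B) (hev : Even (Nat.card G)) :
    Even (Nat.card {χ : IrrCharacter G // χ ∈ B ∧ Odd (charDegree (χ : G → ℂ))}) := by
  classical
  haveI := Fintype.ofFinite G
  haveI : Fact (Nat.Prime 2) := ⟨Nat.prime_two⟩
  obtain ⟨t, ht⟩ := exists_prime_orderOf_dvd_card' (G := G) 2 hev.two_dvd
  set S := (Set.toFinite B).toFinset with hS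
  have h1 : ¬ 2 ∣ orderOf (1 : G) := by rw [orderOf_one]; decide
  have h0 := weak_block_orth hM hB 1 t h1 (by rw [ht])
  have h2 : ∀ χ : IrrCharacter G, MemLocalIdeal M ((χ : G → ℂ) t⁻¹ - (χ : G → ℂ) 1) := by
    intro χ
    have := Cfsg.Agent.S0876.char_ppart_congr hM χ t⁻¹ 1 (Commute.one_right _) 1
      (by rw [orderOf_inv, ht, pow_one]) h1
    rwa [mul_one] at this
  have h3 : MemLocalIdeal M (∑ χ ∈ S, (χ : G → ℂ) 1 * (χ : G → ℂ) 1) := by
    have e : ∑ χ ∈ S, (χ : G → ℂ) 1 * (χ : G → ℂ) 1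
        = ∑ χ ∈ S, (χ : G → ℂ) 1 * (χ : G → ℂ) t⁻¹
          - ∑ χ ∈ S, (χ : G → ℂ) 1 * ((χ : G → ℂ) t⁻¹ - (χ : G → ℂ) 1) := by
      rw [← Finset.sum_sub_distrib]
      apply Finset.sum_congr rfl
      intro χ _
      ring
    rw [e, h0, zero_sub]
    apply li_neg
    apply li_sum hM
    intro χ _
    apply lr_mul_li hM _ (h2 χ)
    rw [irr_one_eq_degree]
    exact lr_natCast hM _
  have h4 : ∑ χ ∈ S, (χ : G → ℂ) 1 * (χ : G → ℂ) 1
      = ((∑ χ ∈ S, charDegree (χ : G → ℂ) ^ 2 : ℕ) : ℂ) := by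
    push_cast
    apply Finset.sum_congr rfl
    intro χ _
    rw [irr_one_eq_degree, pow_two]
  rw [h4, li_natCast_iff hM] at h3
  have h5 : (∑ χ ∈ S, charDegree (χ : G → ℂ) ^ 2) % 2
      = (∑ χ ∈ S, if Odd (charDegree (χ : G → ℂ)) then 1 else 0) % 2 := by
    rw [Finset.sum_nat_mod]
    conv_rhs => rw [Finset.sum_nat_mod]
    congr 1
    apply Finset.sum_congr rfl
    intro χ _
    by_cases ho : Odd (charDegree (χ : G → ℂ))
    · rw [if_pos ho]
      have : Odd (charDegree (χ : G → ℂ) ^ 2) := ho.pow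
      rw [Nat.odd_iff.mp this]
    · rw [if_neg ho]
      have he : Even (charDegree (χ : G → ℂ)) := Nat.not_odd_iff_even.mp ho
      have : Even (charDegree (χ : G → ℂ) ^ 2) := he.pow_of_ne_zero (by norm_num)
      rw [Nat.even_iff.mp this]
  have h6 : (∑ χ ∈ S, if Odd (charDegree (χ : G → ℂ)) then 1 else 0)
      = (S.filter (fun χ : IrrCharacter G => Odd (charDegree (χ : G → ℂ)))).card := by
    rw [Finset.card_filter]
  have h7 : Nat.card {χ : IrrCharacter G // χ ∈ B ∧ Odd (charDegree (χ : G → ℂ))}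
      = (S.filter (fun χ : IrrCharacter G => Odd (charDegree (χ : G → ℂ)))).card := by
    rw [Nat.card_eq_fintype_card, Fintype.card_subtype]
    congr 1
    ext χ
    simp [hS]
  rw [h7, ← h6, Nat.even_iff, ← h5]
  exact Nat.mod_eq_zero_of_dvd h3

/-- If `g ^ k = g ^ 3` for `2`-elements and `g ^ k = g` for elements of odd order, then the power
map `g ↦ g ^ k` has `2`-power order. -/
theorem exists_pow_pow_fix [Finite G] (k : ℕ)
    (hk₁ : ∀ g : G, (∃ j : ℕ, orderOf g = 2 ^ j) → g ^ k = g ^ 3)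
    (hk₂ : ∀ g : G, Odd (orderOf g) → g ^ k = g) :
    ∃ n : ℕ, ∀ g : G, g ^ (k ^ (2 ^ n)) = g := by
  refine ⟨Nat.card G, ?_⟩
  intro g
  set n := Nat.card G with hn
  have ho : orderOf g ≠ 0 := (orderOf_pos g).ne'
  obtain ⟨b, m', hm', hbm⟩ := Nat.exists_eq_two_pow_mul_odd ho
  have hm'0 : m' ≠ 0 := by
    rintro rfl
    simp at hm'
  have hb0 : (2 : ℕ) ^ b ≠ 0 := pow_ne_zero _ (by norm_num)
  -- the 2-part and the odd part
  have ho1 : orderOf (g ^ m') = 2 ^ b := by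
    rw [orderOf_pow_of_dvd hm'0 (Dvd.intro_left _ hbm.symm), hbm,
      Nat.mul_div_cancel _ (Nat.pos_of_ne_zero hm'0)]
  have ho2 : orderOf (g ^ (2 ^ b)) = m' := by
    rw [orderOf_pow_of_dvd hb0 (Dvd.intro _ hbm.symm), hbm,
      Nat.mul_div_cancel_left _ (Nat.pos_of_ne_zero hb0)]
  have A1 : ∀ i : ℕ, (g ^ m') ^ (k ^ i) = (g ^ m') ^ (3 ^ i) := by
    intro i
    induction i with
    | zero => simp
    | succ i ih =>
      rw [pow_succ, pow_mul, ih, ← pow_mul, mul_comm, pow_mul, hk₁ _ ⟨b, ho1⟩, ← pow_mul,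
        ← pow_succ']
  have A2 : ∀ i : ℕ, (g ^ (2 ^ b)) ^ (k ^ i) = g ^ (2 ^ b) := by
    intro i
    induction i with
    | zero => simp
    | succ i ih =>
      rw [pow_succ, pow_mul, ih, hk₂ _ (by rw [ho2]; exact hm')]
  -- 3 ^ (2 ^ n) ≡ 1 mod 2 ^ b
  have hbn : b ≤ n := by
    have h1 : 2 ^ b ≤ orderOf g := Nat.le_of_dvd (orderOf_pos g) (Dvd.intro _ hbm.symm)
    have h2 : orderOf g ≤ n := Nat.le_of_dvd Nat.card_pos (orderOf_dvd_natCard g)
    have h3 : b < 2 ^ b := Nat.lt_two_pow_self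
    omega
  have h3 : 3 ^ (2 ^ n) ≡ 1 [MOD 2 ^ b] := by
    rcases Nat.eq_zero_or_pos b with hb | hb
    · rw [hb, pow_zero]; exact Nat.modEq_one
    · have e1 : 3 ^ Nat.totient (2 ^ b) ≡ 1 [MOD 2 ^ b] :=
        Nat.ModEq.pow_totient (Nat.Coprime.pow_right b (by decide))
      rw [Nat.totient_prime_pow Nat.prime_two hb] at e1
      have e2 : 2 ^ (b - 1) * (2 - 1) ∣ 2 ^ n := by
        rw [show (2 - 1 : ℕ) = 1 from rfl, mul_one]
        exact pow_dvd_pow 2 (by omega)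
      obtain ⟨c, hc⟩ := e2
      rw [hc, pow_mul]
      have := e1.pow c
      rwa [one_pow] at this
  have B1 : (g ^ m') ^ (k ^ (2 ^ n)) = g ^ m' := by
    rw [A1]
    have : (g ^ m') ^ (3 ^ (2 ^ n)) = (g ^ m') ^ 1 := by
      rw [pow_eq_pow_iff_modEq, ho1]
      exact h3
    rw [this, pow_one]
  have B2 := A2 (2 ^ n)
  set y := g ^ (k ^ (2 ^ n)) with hy
  have e1 : y ^ m' = g ^ m' := by
    rw [hy, ← pow_mul, mul_comm, pow_mul]; exact B1
  have e2 : y ^ (2 ^ b) = g ^ (2 ^ b) := by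
    rw [hy, ← pow_mul, mul_comm, pow_mul]; exact B2
  have hcop : Nat.Coprime m' (2 ^ b) :=
    Nat.Coprime.pow_right b (Nat.Coprime.symm (Nat.coprime_two_left.mpr hm'))
  have hbz := Nat.gcd_eq_gcd_ab m' (2 ^ b)
  rw [hcop] at hbz
  have key : ∀ z : G, z = (z ^ m') ^ (Nat.gcdA m' (2 ^ b)) * (z ^ (2 ^ b)) ^ (Nat.gcdB m' (2 ^ b)) := by
    intro z
    rw [← zpow_natCast z m', ← zpow_natCast z (2 ^ b), ← zpow_mul, ← zpow_mul, ← zpow_add, ← hbz]
    simp
  rw [key y, e1, e2, ← key g]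

end Cfsg.Agent.Helper24
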