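import Mathlib
import Cfsg.Agent.Helper7.MatRep

/-!
# Representations and trivial-intersection Sylow subgroups (helper24)

A lattice argument over a valuation ring of `ℂ`: if `P ≤ H ≤ Γ` with `P` a `p`-group acting
freely on the cosets `Γ/H` other than `H`, then a complex representation of degree `n` with
`n ^ 2 ≤ |P|` has the same commutant on `H` and on `Γ`.
-/

set_option autoImplicit false

namespace Cfsg.Agent.Helper24

open Cfsg

open scoped Pointwise

/-- translation of a function on a group -/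
def tiTr {P : Type*} [Group P] {k : Type*} (u : P) (f : P → k) : P → k := fun z => f (u⁻¹ * z)

theorem tiTr_one {P : Type*} [Group P] {k : Type*} (f : P → k) : tiTr (1 : P) f = f := by
  funext z; simp [tiTr]

theorem tiTr_mul {P : Type*} [Group P] {k : Type*} (u u' : P) (f : P → k) :
    tiTr (u * u') f = tiTr u (tiTr u' f) := by
  funext z; simp [tiTr, mul_assoc]

/-- In the group algebra of a finite `p`-group over a field of characteristic `p`, every
nonzero element has a left multiple equal to the sum of all group elements. -/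
theorem pgroup_conv {k : Type*} [Field k] (p : ℕ) [hp : Fact p.Prime] (hk : (p : k) = 0)
    {P : Type*} [Group P] [Fintype P] (hP : IsPGroup p P) (c : P → k) (hc : c ≠ 0) :
    ∃ b : P → k, ∀ z : P, ∑ x : P, b x * c (x⁻¹ * z) = 1 := by
  classical
  let S : AddSubgroup (P → k) := AddSubgroup.closure (Set.range (fun u : P => tiTr u c))
  -- every element of S is a convolution multiple of c
  have hform : ∀ f ∈ S, ∃ b : P → k, ∀ z : P, f z = ∑ x : P, b x * c (x⁻¹ * z) := by
    intro f hf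
    induction hf using AddSubgroup.closure_induction with
    | mem f hf =>
      obtain ⟨u, rfl⟩ := hf
      refine ⟨Pi.single u 1, fun z => ?_⟩
      rw [Finset.sum_eq_single u]
      · simp [tiTr]
      · intro x _ hx
        simp [Pi.single_apply, hx]
      · intro h; exact absurd (Finset.mem_univ _) h
    | zero => exact ⟨0, fun z => by simp⟩
    | add f g _ _ hf hg =>
      obtain ⟨b₁, h₁⟩ := hf
      obtain ⟨b₂, h₂⟩ := hg
      refine ⟨b₁ + b₂, fun z => ?_⟩
      rw [Pi.add_apply, h₁, h₂, ← Finset.sum_add_distrib]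
      apply Finset.sum_congr rfl
      intro x _
      simp [add_mul]
    | neg f _ hf =>
      obtain ⟨b₁, h₁⟩ := hf
      refine ⟨-b₁, fun z => ?_⟩
      rw [Pi.neg_apply, h₁, ← Finset.sum_neg_distrib]
      apply Finset.sum_congr rfl
      intro x _
      simp
  -- S is stable under translation
  have hstab : ∀ (u : P) (f : P → k), f ∈ S → tiTr u f ∈ S := by
    intro u f hf
    induction hf using AddSubgroup.closure_induction with
    | mem f hf =>
      obtain ⟨u', rfl⟩ := hf
      rw [← tiTr_mul]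
      exact AddSubgroup.subset_closure ⟨u * u', rfl⟩
    | zero =>
      have : tiTr u (0 : P → k) = 0 := by funext z; simp [tiTr]
      rw [this]; exact S.zero_mem
    | add f g _ _ hf hg =>
      have : tiTr u (f + g) = tiTr u f + tiTr u g := by funext z; simp [tiTr]
      rw [this]; exact S.add_mem hf hg
    | neg f _ hf =>
      have : tiTr u (-f) = -tiTr u f := by funext z; simp [tiTr]
      rw [this]; exact S.neg_mem hf
  -- exponent p
  have hexp : ∀ f : P → k, p • f = 0 := by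
    intro f
    funext z
    simp [hk]
  -- S is finite
  have hfin : Finite S := by
    haveI : AddGroup.FG S := by
      rw [AddGroup.fg_iff_addSubgroup_fg]
      rw [AddSubgroup.fg_iff]
      exact ⟨_, rfl, Set.finite_range _⟩
    apply AddCommGroup.finite_of_fg_torsion
    intro x
    rw [isOfFinAddOrder_iff_nsmul_eq_zero]
    refine ⟨p, hp.out.pos, ?_⟩
    apply Subtype.ext
    simp [hexp]
  -- the action
  letI : MulAction P S :=
    { smul := fun u f => ⟨tiTr u f.1, hstab u f.1 f.2⟩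
      one_smul := fun f => Subtype.ext (tiTr_one f.1)
      mul_smul := fun u u' f => Subtype.ext (tiTr_mul u u' f.1) }
  have hsmul : ∀ (u : P) (f : S), ((u • f : S) : P → k) = tiTr u f.1 := fun _ _ => rfl
  have hmod := hP.card_modEq_card_fixedPoints (α := S)
  have hcS : c ∈ S := by
    have : tiTr (1 : P) c ∈ S := AddSubgroup.subset_closure ⟨1, rfl⟩
    rwa [tiTr_one] at this
  have hdvd : p ∣ Nat.card S := by
    have h1 : addOrderOf (⟨c, hcS⟩ : S) = p := by
      apply addOrderOf_eq_prime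
      · apply Subtype.ext
        simp [hexp]
      · intro h
        apply hc
        exact congrArg Subtype.val h
    rw [← h1]
    exact addOrderOf_dvd_natCard _
  have hdvd2 : p ∣ Nat.card (MulAction.fixedPoints P S) := by
    exact (Nat.modEq_zero_iff_dvd.mp ((hmod.symm.trans (Nat.modEq_zero_iff_dvd.mpr hdvd))))
  have hzero : (0 : S) ∈ MulAction.fixedPoints P S := by
    intro u
    apply Subtype.ext
    rw [hsmul]
    funext z; simp [tiTr]
  have hfinF : Finite (MulAction.fixedPoints P S) := inferInstance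
  have hpos : 0 < Nat.card (MulAction.fixedPoints P S) :=
    Nat.card_pos_iff.mpr ⟨⟨⟨0, hzero⟩⟩, hfinF⟩
  have hgt : 1 < Nat.card (MulAction.fixedPoints P S) :=
    lt_of_lt_of_le hp.out.one_lt (Nat.le_of_dvd hpos hdvd2)
  obtain ⟨f, hf⟩ : ∃ f : MulAction.fixedPoints P S, f ≠ ⟨0, hzero⟩ := by
    haveI : Nontrivial (MulAction.fixedPoints P S) := Finite.one_lt_card_iff_nontrivial.mp hgt
    exact exists_ne _
  have hfne : (f.1 : P → k) ≠ 0 := by
    intro h
    apply hf
    apply Subtype.ext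
    apply Subtype.ext
    exact h
  have hconst : ∀ z : P, (f.1 : P → k) z = (f.1 : P → k) 1 := by
    intro z
    have h1 := f.2 z
    have h2 : ((z • f.1 : S) : P → k) 1 = (f.1 : P → k) 1 := by rw [h1]
    rw [hsmul] at h2
    simp only [tiTr, mul_one] at h2
    have h3 := f.2 z⁻¹
    have h4 : ((z⁻¹ • f.1 : S) : P → k) 1 = (f.1 : P → k) 1 := by rw [h3]
    rw [hsmul] at h4
    simp only [tiTr, mul_one, inv_inv] at h4
    exact h4
  have hd : (f.1 : P → k) 1 ≠ 0 := by
    intro h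
    apply hfne
    funext z
    rw [hconst z, h]; rfl
  obtain ⟨b, hb⟩ := hform f.1 f.1.2
  refine ⟨fun x => b x / (f.1 : P → k) 1, fun z => ?_⟩
  have h1 := hb z
  rw [hconst z] at h1
  have h2 : ∑ x : P, b x / (f.1 : P → k) 1 * c (x⁻¹ * z)
      = (∑ x : P, b x * c (x⁻¹ * z)) / (f.1 : P → k) 1 := by
    rw [Finset.sum_div]
    apply Finset.sum_congr rfl
    intro x _
    ring
  rw [h2, ← h1, div_self hd]

/-- A valuation ring of `ℂ` in which `p` is a non-unit. -/
theorem exists_valSubring (p : ℕ) [hp : Fact p.Prime] :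
    ∃ B : ValuationSubring ℂ, (p : ℂ) ∈ B.nonunits := by
  let A : Subring ℂ := ⊥
  have hpA : (p : ℂ) ∈ A := natCast_mem A p
  let I : Ideal A := Ideal.span {(⟨(p : ℂ), hpA⟩ : A)}
  have hI : I ≠ ⊤ := by
    intro h
    have h1 : (1 : A) ∈ I := by rw [h]; trivial
    obtain ⟨a, ha⟩ := Ideal.mem_span_singleton'.mp h1
    obtain ⟨m, hm⟩ := Subring.mem_bot.mp a.2
    have h2 : ((m : ℂ)) * (p : ℂ) = 1 := by
      have := congrArg Subtype.val ha
      simp only [Subring.coe_mul, Subring.coe_one] at this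
      rw [hm]; exact this
    have h3 : (m * (p : ℤ) : ℤ) = 1 := by exact_mod_cast h2
    have h4 : ((p : ℤ)) ∣ 1 := Dvd.intro_left m h3
    have h5 : (p : ℤ) = 1 ∨ (p : ℤ) = -1 := Int.isUnit_iff.mp (isUnit_of_dvd_one h4)
    have hp1 := hp.out.one_lt
    rcases h5 with h5 | h5 <;> omega
  obtain ⟨B, _, hB⟩ := Ideal.image_subset_nonunits_valuationSubring I hI
  refine ⟨B, hB ⟨⟨(p : ℂ), hpA⟩, Ideal.subset_span rfl, rfl⟩⟩

/-- decomposition of a `P × H`-invariant set on which `P × H` acts freely -/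
theorem doset_sum {G : Type*} [Group G] [DecidableEq G] {W : Type*} [AddCommMonoid W]
    (H P : Subgroup G) [Fintype H] [Fintype P] (F : G → W) :
    ∀ T : Finset G, (∀ g ∈ T, ∀ u ∈ P, ∀ h ∈ H, u * g * h ∈ T) →
      (∀ g ∈ T, ∀ u ∈ P, g⁻¹ * u * g ∈ H → u = 1) →
      ∃ R : Finset G, R ⊆ T ∧
        ∑ g ∈ T, F g = ∑ r ∈ R, ∑ u : P, ∑ h : H, F ((u : G) * r * (h : G)) := by
  intro T
  induction T using Finset.strongInduction with
  | H T ih =>
    intro hcl hfr
    by_cases hT : T = ∅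
    · subst hT
      exact ⟨∅, Finset.Subset.refl _, by simp⟩
    · obtain ⟨r, hr⟩ := Finset.nonempty_iff_ne_empty.mpr hT
      let φ : P × H → G := fun x => (x.1 : G) * r * (x.2 : G)
      have hφinj : Function.Injective φ := by
        rintro ⟨u, h⟩ ⟨u', h'⟩ heq
        simp only [φ] at heq
        have h1 : r⁻¹ * ((u' : G)⁻¹ * u) * r = (h' : G) * (h : G)⁻¹ := by
          have h0 : (u : G) * r = (u' : G) * r * (h' : G) * (h : G)⁻¹ := by
            rw [← heq]; group
          calc r⁻¹ * ((u' : G)⁻¹ * u) * r = r⁻¹ * (u' : G)⁻¹ * ((u : G) * r) := by group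
            _ = _ := by rw [h0]; group
        have h2 : (u' : G)⁻¹ * u = 1 :=
          hfr r hr _ (P.mul_mem (P.inv_mem u'.2) u.2)
            (by rw [h1]; exact H.mul_mem h'.2 (H.inv_mem h.2))
        have h3 : (u : G) = u' := by
          have := congrArg (fun t => (u' : G) * t) h2
          simpa using this
        have h4 : u = u' := Subtype.ext h3
        subst h4
        have h5 : (h : G) = h' := mul_left_cancel heq
        rw [Subtype.ext h5]
      let D : Finset G := Finset.image φ Finset.univ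
      have hDT : D ⊆ T := by
        intro g hg
        obtain ⟨x, _, rfl⟩ := Finset.mem_image.mp hg
        exact hcl r hr _ x.1.2 _ x.2.2
      have hrD : r ∈ D := Finset.mem_image.mpr ⟨(1, 1), Finset.mem_univ _, by simp [φ]⟩
      have hss : T \ D ⊂ T := by
        refine Finset.ssubset_iff_subset_ne.mpr ⟨Finset.sdiff_subset, fun h => ?_⟩
        have : r ∈ T \ D := by rw [h]; exact hr
        exact (Finset.mem_sdiff.mp this).2 hrD
      have hcl' : ∀ g ∈ T \ D, ∀ u ∈ P, ∀ h ∈ H, u * g * h ∈ T \ D := by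
        intro g hg u hu h hh
        obtain ⟨hgT, hgD⟩ := Finset.mem_sdiff.mp hg
        refine Finset.mem_sdiff.mpr ⟨hcl g hgT u hu h hh, fun hD => hgD ?_⟩
        obtain ⟨⟨u', h'⟩, _, hx⟩ := Finset.mem_image.mp hD
        refine Finset.mem_image.mpr ⟨(⟨u⁻¹ * u', P.mul_mem (P.inv_mem hu) u'.2⟩,
          ⟨h' * h⁻¹, H.mul_mem h'.2 (H.inv_mem hh)⟩), Finset.mem_univ _, ?_⟩
        simp only [φ] at hx ⊢
        calc u⁻¹ * (u' : G) * r * ((h' : G) * h⁻¹)
            = u⁻¹ * ((u' : G) * r * (h' : G)) * h⁻¹ := by group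
          _ = g := by rw [hx]; group
      have hfr' : ∀ g ∈ T \ D, ∀ u ∈ P, g⁻¹ * u * g ∈ H → u = 1 :=
        fun g hg => hfr g (Finset.mem_sdiff.mp hg).1
      obtain ⟨R', hR', hsum'⟩ := ih (T \ D) hss hcl' hfr'
      have hrR' : r ∉ R' := fun h => (Finset.mem_sdiff.mp (hR' h)).2 hrD
      refine ⟨insert r R', ?_, ?_⟩
      · intro g hg
        rcases Finset.mem_insert.mp hg with rfl | hg
        · exact hr
        · exact (Finset.mem_sdiff.mp (hR' hg)).1
      · rw [Finset.sum_insert hrR', ← hsum', ← Finset.sum_sdiff hDT, add_comm]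
        congr 1
        rw [Finset.sum_image (fun x _ y _ h => hφinj h), Fintype.sum_prod_type]

/-- The key lemma: a vector fixed by `H`, with zero `Γ`-trace, yields a vector whose
`P`-translates are linearly independent. -/
theorem ti_key {G : Type*} [Group G] [Fintype G] (p : ℕ) [hp : Fact p.Prime]
    {W : Type*} [AddCommGroup W] [Module ℂ W] (act : G →* (W →ₗ[ℂ] W))
    (Γ H P : Subgroup G) [Fintype Γ] [Fintype H] [Fintype P]
    (hHΓ : H ≤ Γ) (hPH : P ≤ H) (hP : IsPGroup p P)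
    (hfree : ∀ g ∈ Γ, g ∉ H → ∀ u ∈ P, g⁻¹ * u * g ∈ H → u = 1)
    (v : W) (hv : v ≠ 0) (hfix : ∀ h ∈ H, act h v = v)
    (hsum : ∑ g : Γ, act (g : G) v = 0) :
    ∃ R : Finset G, (∀ r ∈ R, r ∈ Γ) ∧
      LinearIndependent ℂ (fun u : P => act (u : G) (∑ r ∈ R, act r v)) := by
  classical
  let T : Finset G := Finset.univ.filter (fun g => g ∈ Γ ∧ g ∉ H)
  have hcl : ∀ g ∈ T, ∀ u ∈ P, ∀ h ∈ H, u * g * h ∈ T := by
    intro g hg u hu h hh
    obtain ⟨hgΓ, hgH⟩ := (Finset.mem_filter.mp hg).2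
    refine Finset.mem_filter.mpr ⟨Finset.mem_univ _,
      Γ.mul_mem (Γ.mul_mem (hHΓ (hPH hu)) hgΓ) (hHΓ hh), fun hc => hgH ?_⟩
    have : g = u⁻¹ * (u * g * h) * h⁻¹ := by group
    rw [this]
    exact H.mul_mem (H.mul_mem (H.inv_mem (hPH hu)) hc) (H.inv_mem hh)
  have hfr : ∀ g ∈ T, ∀ u ∈ P, g⁻¹ * u * g ∈ H → u = 1 := by
    intro g hg
    obtain ⟨hgΓ, hgH⟩ := (Finset.mem_filter.mp hg).2
    exact hfree g hgΓ hgH
  obtain ⟨R, hRT, hR⟩ := doset_sum H P (fun g => act g v) T hcl hfr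
  have hRΓ : ∀ r ∈ R, r ∈ Γ := fun r hr => (Finset.mem_filter.mp (hRT hr)).2.1
  refine ⟨R, hRΓ, ?_⟩
  obtain ⟨w, hw⟩ : ∃ w : W, w = ∑ r ∈ R, act r v := ⟨_, rfl⟩
  rw [← hw]
  have hvw : v + ∑ u : P, act (u : G) w = 0 := by
    have h1 : ∑ g : Γ, act (g : G) v = ∑ g ∈ Finset.univ.filter (fun g => g ∈ Γ), act g v := by
      exact (Finset.sum_subtype (p := fun g => g ∈ Γ) (Finset.univ.filter (fun g => g ∈ Γ)) (by simp)
        (fun g => act g v)).symm
    have h2 : ∑ g ∈ Finset.univ.filter (fun g => g ∈ Γ), act g v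
        = ∑ g ∈ Finset.univ.filter (fun g => g ∈ H), act g v + ∑ g ∈ T, act g v := by
      rw [← Finset.sum_union]
      · apply Finset.sum_congr _ (fun _ _ => rfl)
        ext g
        simp only [Finset.mem_filter, Finset.mem_univ, true_and, Finset.mem_union, T]
        constructor
        · intro hg
          by_cases hgH : g ∈ H
          · left; exact hgH
          · right; exact ⟨hg, hgH⟩
        · rintro (hg | hg)
          · exact hHΓ hg
          · exact hg.1
      · rw [Finset.disjoint_left]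
        intro g hg hg'
        exact (Finset.mem_filter.mp hg').2.2 (Finset.mem_filter.mp hg).2
    have hcardH : (Finset.univ.filter (fun g => g ∈ H)).card = Nat.card H := by
      rw [Nat.card_eq_fintype_card]
      exact (Fintype.card_of_subtype _ (by simp)).symm
    have h3 : ∑ g ∈ Finset.univ.filter (fun g => g ∈ H), act g v = (Nat.card H : ℂ) • v := by
      rw [Finset.sum_congr rfl (fun g hg => hfix g (Finset.mem_filter.mp hg).2)]
      rw [Finset.sum_const, hcardH, Nat.cast_smul_eq_nsmul ℂ]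
    have h4 : ∑ g ∈ T, act g v = (Nat.card H : ℂ) • ∑ u : P, act (u : G) w := by
      rw [hR, Finset.smul_sum, hw, Finset.sum_comm]
      apply Finset.sum_congr rfl
      intro u _
      rw [map_sum, Finset.smul_sum]
      apply Finset.sum_congr rfl
      intro r _
      have h5 : ∀ h : H, act ((u : G) * r * (h : G)) v = act (u : G) (act r v) := by
        intro h
        rw [map_mul, map_mul, Module.End.mul_apply, Module.End.mul_apply, hfix h h.2]
      rw [Finset.sum_congr rfl (fun h _ => h5 h), Finset.sum_const, Finset.card_univ,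
        ← Nat.card_eq_fintype_card, Nat.cast_smul_eq_nsmul ℂ]
    have h5 : (Nat.card H : ℂ) • (v + ∑ u : P, act (u : G) w) = 0 := by
      rw [smul_add, ← h3, ← h4, ← h2, ← h1, hsum]
    have h6 : (Nat.card H : ℂ) ≠ 0 := by
      exact_mod_cast Nat.card_pos.ne'
    exact (smul_eq_zero.mp h5).resolve_left h6
  obtain ⟨B, hB⟩ := exists_valSubring p
  obtain ⟨𝔪, h𝔪⟩ : ∃ 𝔪 : Ideal B, 𝔪 = IsLocalRing.maximalIdeal B := ⟨_, rfl⟩
  obtain ⟨Y, hYdef⟩ : ∃ Y : Submodule B W,
      Y = Submodule.span B (Set.range (fun g : Γ => act (g : G) v)) := ⟨_, rfl⟩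
  have hYfg : Y.FG := by rw [hYdef]; exact Submodule.fg_span (Set.finite_range _)
  have hvY : v ∈ Y := by
    rw [hYdef]; exact Submodule.subset_span ⟨1, by simp⟩
  have hstab : ∀ g ∈ Γ, ∀ y ∈ Y, act g y ∈ Y := by
    intro g hg y hy
    have hmap : Y.map ((act g).restrictScalars B) ≤ Y := by
      rw [hYdef, Submodule.map_span_le]
      rintro _ ⟨g', rfl⟩
      refine Submodule.subset_span ⟨⟨g * g', Γ.mul_mem hg g'.2⟩, ?_⟩
      simp [map_mul]
    exact hmap (Submodule.mem_map_of_mem hy)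
  have hvm : v ∉ 𝔪 • Y := by
    intro hvm
    have hle : Y ≤ 𝔪 • Y := by
      conv_lhs => rw [hYdef]
      rw [Submodule.span_le]
      rintro _ ⟨g, rfl⟩
      have h1 : (𝔪 • Y).map ((act (g : G)).restrictScalars B) ≤ 𝔪 • Y := by
        rw [Submodule.map_smul'']
        apply Submodule.smul_mono (le_refl _)
        intro y hy
        obtain ⟨y', hy', rfl⟩ := Submodule.mem_map.mp hy
        exact hstab g g.2 y' hy'
      exact h1 (Submodule.mem_map_of_mem hvm)
    have hbot := Submodule.eq_bot_of_le_smul_of_le_jacobson_bot 𝔪 Y hYfg hle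
      (by rw [h𝔪]; exact IsLocalRing.maximalIdeal_le_jacobson _)
    rw [hbot] at hvY
    exact hv ((Submodule.mem_bot B).mp hvY)
  have hwY : w ∈ Y := by
    rw [hw, hYdef]
    exact Submodule.sum_mem _ (fun r hr => Submodule.subset_span ⟨⟨r, hRΓ r hr⟩, rfl⟩)
  have huwY : ∀ u : P, act (u : G) w ∈ Y := fun u => hstab u (hHΓ (hPH u.2)) w hwY
  have htr : ∑ u : P, act (u : G) w ∉ 𝔪 • Y := by
    intro h
    apply hvm
    have h1 : v = -∑ u : P, act (u : G) w := eq_neg_of_add_eq_zero_left hvw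
    rw [h1]
    exact Submodule.neg_mem _ h
  rw [Fintype.linearIndependent_iff]
  intro c hc
  by_contra hne
  push Not at hne
  obtain ⟨u₁, hu₁⟩ := hne
  obtain ⟨u₀, -, hu₀⟩ := Finset.exists_max_image Finset.univ
    (fun u : P => B.valuation (c u)) ⟨1, Finset.mem_univ _⟩
  have hc0 : c u₀ ≠ 0 := by
    intro h0
    have h1 := hu₀ u₁ (Finset.mem_univ _)
    simp only [h0, map_zero] at h1
    exact hu₁ ((map_eq_zero _).mp (le_antisymm h1 zero_le))
  have hcB : ∀ u : P, c u / c u₀ ∈ B := by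
    intro u
    rw [← ValuationSubring.valuation_le_one_iff, map_div₀]
    exact div_le_one_of_le₀ (hu₀ u (Finset.mem_univ _)) zero_le
  obtain ⟨cB, hcBdef⟩ : ∃ cB : P → B, ∀ u, ((cB u : B) : ℂ) = c u / c u₀ :=
    ⟨fun u => ⟨c u / c u₀, hcB u⟩, fun _ => rfl⟩
  have hsm : ∀ (b : B) (x : W), b • x = (b : ℂ) • x := fun _ _ => rfl
  have hrel : ∑ u : P, cB u • act (u : G) w = 0 := by
    have h1 : ∀ u : P, cB u • act (u : G) w = (c u₀)⁻¹ • (c u • act (u : G) w) := by
      intro u
      rw [smul_smul, hsm, hcBdef]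
      congr 1
      field_simp
    rw [Finset.sum_congr rfl (fun u _ => h1 u), ← Finset.smul_sum, hc, smul_zero]
  have hpk : (p : IsLocalRing.ResidueField B) = 0 := by
    have h1 : (p : B) ∈ IsLocalRing.maximalIdeal B := by
      obtain ⟨ha, hm⟩ := ValuationSubring.mem_nonunits_iff_exists_mem_maximalIdeal.mp hB
      have h2 : (⟨(p : ℂ), ha⟩ : B) = (p : B) := by
        apply Subtype.ext; simp
      rw [← h2]; exact hm
    have h3 := (IsLocalRing.residue_eq_zero_iff (p : B)).mpr h1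
    simpa using h3
  have hcbar : (fun u : P => IsLocalRing.residue B (cB u)) ≠ 0 := by
    intro h
    have h1 : IsLocalRing.residue B (cB u₀) = 0 := congrFun h u₀
    have h2 : cB u₀ = 1 := by
      apply Subtype.ext
      rw [hcBdef]
      simp [div_self hc0]
    rw [h2, map_one] at h1
    exact one_ne_zero h1
  obtain ⟨bbar, hbbar⟩ := pgroup_conv p hpk hP _ hcbar
  choose bB hbB using fun x : P => IsLocalRing.residue_surjective (R := B) (bbar x)
  have hm : ∀ z : P, (∑ x : P, bB x * cB (x⁻¹ * z)) - 1 ∈ 𝔪 := by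
    intro z
    rw [h𝔪, ← IsLocalRing.residue_eq_zero_iff, map_sub, map_sum, map_one, sub_eq_zero, ← hbbar z]
    apply Finset.sum_congr rfl
    intro x _
    rw [map_mul, hbB]
  have hzero : ∑ z : P, (∑ x : P, bB x * cB (x⁻¹ * z)) • act (z : G) w = 0 := by
    calc ∑ z : P, (∑ x : P, bB x * cB (x⁻¹ * z)) • act (z : G) w
        = ∑ z : P, ∑ x : P, (bB x * cB (x⁻¹ * z)) • act (z : G) w := by
          apply Finset.sum_congr rfl; intro z _; rw [Finset.sum_smul]
      _ = ∑ x : P, ∑ z : P, (bB x * cB (x⁻¹ * z)) • act (z : G) w := Finset.sum_comm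
      _ = ∑ x : P, ∑ y : P, (bB x * cB y) • act ((x * y : P) : G) w := by
          apply Finset.sum_congr rfl; intro x _
          refine (Fintype.sum_equiv (Equiv.mulLeft x) _ _ (fun y => ?_)).symm
          simp
      _ = ∑ x : P, bB x • act (x : G) (∑ y : P, cB y • act (y : G) w) := by
          apply Finset.sum_congr rfl; intro x _
          rw [map_sum, Finset.smul_sum]
          apply Finset.sum_congr rfl; intro y _
          rw [Subgroup.coe_mul, map_mul, Module.End.mul_apply, mul_smul]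
          congr 1
          rw [LinearMap.map_smul_of_tower]
      _ = 0 := by simp [hrel]
  apply htr
  have hsplit : ∑ u : P, act (u : G) w
      = -∑ z : P, ((∑ x : P, bB x * cB (x⁻¹ * z)) - 1) • act (z : G) w := by
    rw [eq_neg_iff_add_eq_zero, ← Finset.sum_add_distrib, ← hzero]
    apply Finset.sum_congr rfl; intro z _
    rw [sub_smul, one_smul]; abel
  rw [hsplit]
  apply Submodule.neg_mem
  apply Submodule.sum_mem
  intro z _
  exact Submodule.smul_mem_smul (hm z) (huwY z)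

/-- conjugation action of `G` on matrices through a matrix representation -/
noncomputable def conjAct {G : Type*} [Group G] {n : ℕ} (M : G →* Matrix (Fin n) (Fin n) ℂ) :
    G →* (Matrix (Fin n) (Fin n) ℂ →ₗ[ℂ] Matrix (Fin n) (Fin n) ℂ) where
  toFun g :=
    { toFun := fun X => M g * X * M g⁻¹
      map_add' := fun X Y => by rw [Matrix.mul_add, Matrix.add_mul]
      map_smul' := fun c X => by simp }
  map_one' := by
    apply LinearMap.ext; intro X
    simp
  map_mul' g h := by
    apply LinearMap.ext; intro X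
    simp [map_mul, mul_inv_rev, Matrix.mul_assoc]

theorem conjAct_apply {G : Type*} [Group G] {n : ℕ} (M : G →* Matrix (Fin n) (Fin n) ℂ)
    (g : G) (X : Matrix (Fin n) (Fin n) ℂ) : conjAct M g X = M g * X * M g⁻¹ := rfl

/-- **Commutants agree.**  Let `P ≤ H ≤ Γ` with `P` a `p`-group such that `P ∩ gHg⁻¹ = 1` for
`g ∈ Γ \ H`, and let `M` be a matrix representation of degree `n` with `n ^ 2 ≤ |P|`.  Then
every matrix commuting with `M(H)` commutes with `M(Γ)`. -/
theorem ti_commutant {G : Type*} [Group G] [Finite G] (p : ℕ) [hp : Fact p.Prime] {n : ℕ}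
    (M : G →* Matrix (Fin n) (Fin n) ℂ) (Γ H P : Subgroup G) (hHΓ : H ≤ Γ) (hPH : P ≤ H)
    (hP : IsPGroup p P) (hfree : ∀ g ∈ Γ, g ∉ H → ∀ u ∈ P, g⁻¹ * u * g ∈ H → u = 1)
    (hn : n ^ 2 ≤ Nat.card P) (X : Matrix (Fin n) (Fin n) ℂ)
    (hX : ∀ h ∈ H, M h * X = X * M h) : ∀ g ∈ Γ, M g * X = X * M g := by
  classical
  haveI : Fintype G := Fintype.ofFinite G
  have hMinv : ∀ g : G, M g * M g⁻¹ = 1 := fun g => by rw [← map_mul, mul_inv_cancel, map_one]
  have hMinv' : ∀ g : G, M g⁻¹ * M g = 1 := fun g => by rw [← map_mul, inv_mul_cancel, map_one]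
  obtain ⟨act, hact⟩ : ∃ act : G →* (Matrix (Fin n) (Fin n) ℂ →ₗ[ℂ] Matrix (Fin n) (Fin n) ℂ),
      ∀ g X, act g X = M g * X * M g⁻¹ := ⟨conjAct M, fun _ _ => rfl⟩
  have hΓne : (Nat.card Γ : ℂ) ≠ 0 := by exact_mod_cast Nat.card_pos.ne'
  obtain ⟨X₀, hX₀def⟩ : ∃ X₀ : Matrix (Fin n) (Fin n) ℂ,
      X₀ = (Nat.card Γ : ℂ)⁻¹ • ∑ g : Γ, act (g : G) X := ⟨_, rfl⟩
  have hX₀ : ∀ g ∈ Γ, act g X₀ = X₀ := by
    intro g hg
    rw [hX₀def, map_smul, map_sum]
    congr 1
    refine Fintype.sum_equiv (Equiv.mulLeft (⟨g, hg⟩ : Γ)) _ _ (fun g' => ?_)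
    simp [map_mul]
  obtain ⟨v, hvdef⟩ : ∃ v : Matrix (Fin n) (Fin n) ℂ, v = X - X₀ := ⟨_, rfl⟩
  have hfix : ∀ h ∈ H, act h v = v := by
    intro h hh
    have h1 : act h X = X := by
      rw [hact, hX h hh, Matrix.mul_assoc, hMinv, Matrix.mul_one]
    rw [hvdef, map_sub, h1, hX₀ h (hHΓ hh)]
  have hsum : ∑ g : Γ, act (g : G) v = 0 := by
    rw [hvdef]
    simp only [map_sub, Finset.sum_sub_distrib]
    rw [Finset.sum_congr rfl (fun (g : Γ) _ => hX₀ (g : G) g.2), Finset.sum_const, Finset.card_univ,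
      ← Nat.card_eq_fintype_card, hX₀def, ← Nat.cast_smul_eq_nsmul ℂ, smul_smul,
      mul_inv_cancel₀ hΓne, one_smul, sub_self]
  intro g hg
  by_cases hv : v = 0
  · have h1 : X = X₀ := sub_eq_zero.mp (hvdef ▸ hv)
    have h2 := hX₀ g hg
    rw [← h1, hact] at h2
    calc M g * X = M g * X * (M g⁻¹ * M g) := by rw [hMinv', Matrix.mul_one]
      _ = (M g * X * M g⁻¹) * M g := by simp only [Matrix.mul_assoc]
      _ = X * M g := by rw [h2]
  · exfalso
    obtain ⟨R, hRΓ, hli⟩ := ti_key p act Γ H P hHΓ hPH hP hfree v hv hfix hsum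
    have htr_act : ∀ (g : G) (Y : Matrix (Fin n) (Fin n) ℂ), (act g Y).trace = Y.trace := by
      intro g Y
      rw [hact, Matrix.trace_mul_comm, ← Matrix.mul_assoc, hMinv', Matrix.one_mul]
    have htrv : v.trace = 0 := by
      have h1 : (∑ g : Γ, act (g : G) v).trace = (Nat.card Γ : ℂ) * v.trace := by
        rw [Matrix.trace_sum, Finset.sum_congr rfl (fun (g : Γ) _ => htr_act (g : G) v), Finset.sum_const,
          Finset.card_univ, ← Nat.card_eq_fintype_card, nsmul_eq_mul]
      rw [hsum, Matrix.trace_zero] at h1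
      exact (mul_eq_zero.mp h1.symm).resolve_left hΓne
    obtain ⟨w, hw⟩ : ∃ w : Matrix (Fin n) (Fin n) ℂ, w = ∑ r ∈ R, act r v := ⟨_, rfl⟩
    rw [← hw] at hli
    have htrw : ∀ u : P, (act (u : G) w).trace = 0 := by
      intro u
      rw [htr_act, hw, Matrix.trace_sum]
      apply Finset.sum_eq_zero
      intro r _
      rw [htr_act, htrv]
    obtain ⟨K, hK⟩ : ∃ K : Submodule ℂ (Matrix (Fin n) (Fin n) ℂ),
        K = LinearMap.ker (Matrix.traceLinearMap (Fin n) ℂ ℂ) := ⟨_, rfl⟩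
    have hmemK : ∀ u : P, act (u : G) w ∈ K := by
      intro u
      rw [hK, LinearMap.mem_ker]
      exact htrw u
    have hfli : LinearIndependent ℂ (fun u : P => (⟨act (u : G) w, hmemK u⟩ : K)) := by
      apply LinearIndependent.of_comp K.subtype
      exact hli
    have hcard := hfli.fintype_card_le_finrank
    rw [← Nat.card_eq_fintype_card] at hcard
    have hfin : Module.finrank ℂ (Matrix (Fin n) (Fin n) ℂ) = n * n := by
      rw [Module.finrank_matrix]
      simp
    have hPpos : 0 < Nat.card P := Nat.card_pos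
    rcases Nat.eq_zero_or_pos n with hn0 | hn0
    · have h1 : Module.finrank ℂ K ≤ Module.finrank ℂ (Matrix (Fin n) (Fin n) ℂ) :=
        Submodule.finrank_le K
      rw [hfin] at h1
      have h2 : n * n = 0 := by rw [hn0]
      omega
    · have hlt : K < ⊤ := by
        rw [lt_top_iff_ne_top]
        intro htop
        have h1 : (1 : Matrix (Fin n) (Fin n) ℂ) ∈ K := by rw [htop]; trivial
        rw [hK, LinearMap.mem_ker] at h1
        have h2 : ((1 : Matrix (Fin n) (Fin n) ℂ)).trace = (n : ℂ) := by simp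
        have h3 : (n : ℂ) = 0 := by rw [← h2]; exact h1
        have h4 : n = 0 := by exact_mod_cast h3
        omega
      have h1 := Submodule.finrank_lt (lt_top_iff_ne_top.mp hlt)
      rw [hfin] at h1
      have h2 : n * n = n ^ 2 := by ring
      omega

/-- trace of `X ↦ A X B` on matrices -/
theorem trace_conj_map {n : ℕ} (A B : Matrix (Fin n) (Fin n) ℂ)
    (f : Matrix (Fin n) (Fin n) ℂ →ₗ[ℂ] Matrix (Fin n) (Fin n) ℂ)
    (hf : ∀ X, f X = A * X * B) : LinearMap.trace ℂ _ f = A.trace * B.trace := by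
  classical
  let e : Matrix (Fin n) (Fin n) ℂ ≃ₗ[ℂ] (Fin n × Fin n → ℂ) :=
    { toFun := fun X ij => X ij.1 ij.2
      invFun := fun y => Matrix.of (fun i j => y (i, j))
      map_add' := fun X Y => rfl
      map_smul' := fun c X => rfl
      left_inv := fun X => rfl
      right_inv := fun y => rfl }
  let b := Module.Basis.ofEquivFun e
  rw [LinearMap.trace_eq_matrix_trace ℂ b f, Matrix.trace]
  have hb : ∀ ij : Fin n × Fin n, b ij = Matrix.single ij.1 ij.2 1 := by
    intro ij
    show (Module.Basis.ofEquivFun e) ij = _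
    rw [Module.Basis.coe_ofEquivFun]
    ext i j
    show (Pi.single ij (1 : ℂ) : Fin n × Fin n → ℂ) (i, j) = _
    rw [Matrix.single_apply, Pi.single_apply]
    by_cases h : (i, j) = ij
    · subst h; simp
    · rw [if_neg h, if_neg]
      rintro ⟨rfl, rfl⟩
      exact h rfl
  have hd : ∀ ij : Fin n × Fin n,
      (LinearMap.toMatrix b b f) ij ij = A ij.1 ij.1 * B ij.2 ij.2 := by
    intro ij
    rw [LinearMap.toMatrix_apply, Module.Basis.ofEquivFun_repr_apply, hb, hf]
    show (A * (Matrix.single ij.1 ij.2 (1 : ℂ) : Matrix (Fin n) (Fin n) ℂ) * B :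
      Matrix (Fin n) (Fin n) ℂ) ij.1 ij.2 = _
    rw [Cfsg.Agent.Helper7.mul_single_mul_apply]
  simp only [Matrix.diag_apply, hd]
  rw [Fintype.sum_prod_type, Matrix.trace, Matrix.trace, Finset.sum_mul_sum]
  simp [Matrix.diag]

/-- the matrix homomorphism of a representation -/
noncomputable def repHom {G : Type*} [Group G] {n : ℕ} (ρ : Representation ℂ G (Fin n → ℂ)) :
    G →* Matrix (Fin n) (Fin n) ℂ where
  toFun := Cfsg.Agent.Helper7.repMat ρ
  map_one' := Cfsg.Agent.Helper7.repMat_one ρ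
  map_mul' := Cfsg.Agent.Helper7.repMat_mul ρ

theorem repHom_trace {G : Type*} [Group G] {n : ℕ} (ρ : Representation ℂ G (Fin n → ℂ))
    (g : G) : (repHom ρ g).trace = ρ.character g := Cfsg.Agent.Helper7.repMat_trace ρ g

/-- averaging operator of a subgroup on matrices -/
noncomputable def avgOp {G : Type*} [Group G] {n : ℕ} (M : G →* Matrix (Fin n) (Fin n) ℂ)
    (S : Subgroup G) [Fintype S] :
    Matrix (Fin n) (Fin n) ℂ →ₗ[ℂ] Matrix (Fin n) (Fin n) ℂ :=
  (Nat.card S : ℂ)⁻¹ • ∑ s : S, conjAct M (s : G)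

theorem avgOp_apply {G : Type*} [Group G] {n : ℕ} (M : G →* Matrix (Fin n) (Fin n) ℂ)
    (S : Subgroup G) [Fintype S] (X : Matrix (Fin n) (Fin n) ℂ) :
    avgOp M S X = (Nat.card S : ℂ)⁻¹ • ∑ s : S, M (s : G) * X * M (s : G)⁻¹ := by
  simp [avgOp, LinearMap.sum_apply, conjAct_apply]

theorem avgOp_comm {G : Type*} [Group G] {n : ℕ} (M : G →* Matrix (Fin n) (Fin n) ℂ)
    (S : Subgroup G) [Fintype S] (X : Matrix (Fin n) (Fin n) ℂ) (s : G) (hs : s ∈ S) :
    M s * avgOp M S X = avgOp M S X * M s := by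
  have hMinv' : M s⁻¹ * M s = 1 := by rw [← map_mul, inv_mul_cancel, map_one]
  have h1 : M s * avgOp M S X * M s⁻¹ = avgOp M S X := by
    rw [avgOp_apply, Matrix.mul_smul, Matrix.smul_mul, Finset.mul_sum, Finset.sum_mul]
    congr 1
    refine Fintype.sum_equiv (Equiv.mulLeft (⟨s, hs⟩ : S)) _ _ (fun g' => ?_)
    simp [map_mul, mul_inv_rev, Matrix.mul_assoc]
  calc M s * avgOp M S X = M s * avgOp M S X * (M s⁻¹ * M s) := by rw [hMinv', Matrix.mul_one]
    _ = (M s * avgOp M S X * M s⁻¹) * M s := by simp only [Matrix.mul_assoc]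
    _ = avgOp M S X * M s := by rw [h1]

theorem avgOp_fixed {G : Type*} [Group G] {n : ℕ} (M : G →* Matrix (Fin n) (Fin n) ℂ)
    (S : Subgroup G) [Fintype S] (X : Matrix (Fin n) (Fin n) ℂ)
    (hX : ∀ s ∈ S, M s * X = X * M s) : avgOp M S X = X := by
  have h1 : ∀ s : S, M (s : G) * X * M (s : G)⁻¹ = X := by
    intro s
    rw [hX s s.2, Matrix.mul_assoc, ← map_mul, mul_inv_cancel, map_one, Matrix.mul_one]
  have hne : (Nat.card S : ℂ) ≠ 0 := by exact_mod_cast Nat.card_pos.ne'
  rw [avgOp_apply, Finset.sum_congr rfl (fun s _ => h1 s), Finset.sum_const, Finset.card_univ,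
    ← Nat.card_eq_fintype_card, ← Nat.cast_smul_eq_nsmul ℂ, smul_smul, inv_mul_cancel₀ hne,
    one_smul]

theorem avgOp_trace {G : Type*} [Group G] {n : ℕ} (M : G →* Matrix (Fin n) (Fin n) ℂ)
    (S : Subgroup G) [Fintype S] :
    LinearMap.trace ℂ _ (avgOp M S)
      = (Nat.card S : ℂ)⁻¹ * ∑ s : S, (M (s : G)).trace * (M (s : G)⁻¹).trace := by
  rw [avgOp, map_smul, map_sum, smul_eq_mul]
  congr 1
  apply Finset.sum_congr rfl
  intro s _
  exact trace_conj_map _ _ _ (fun X => rfl)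

/-- **Inner products agree.** -/
theorem ti_inner {G : Type*} [Group G] [Finite G] (p : ℕ) [hp : Fact p.Prime] {n : ℕ}
    (M : G →* Matrix (Fin n) (Fin n) ℂ) (Γ H P : Subgroup G) [Fintype Γ] [Fintype H]
    (hHΓ : H ≤ Γ) (hPH : P ≤ H)
    (hP : IsPGroup p P) (hfree : ∀ g ∈ Γ, g ∉ H → ∀ u ∈ P, g⁻¹ * u * g ∈ H → u = 1)
    (hn : n ^ 2 ≤ Nat.card P) :
    (Nat.card Γ : ℂ)⁻¹ * ∑ g : Γ, (M (g : G)).trace * (M (g : G)⁻¹).trace
      = (Nat.card H : ℂ)⁻¹ * ∑ h : H, (M (h : G)).trace * (M (h : G)⁻¹).trace := by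
  rw [← avgOp_trace, ← avgOp_trace]
  have h1 : avgOp M Γ * avgOp M H = avgOp M H := by
    apply LinearMap.ext; intro X
    rw [Module.End.mul_apply]
    apply avgOp_fixed
    exact ti_commutant p M Γ H P hHΓ hPH hP hfree hn _ (fun h hh => avgOp_comm M H X h hh)
  have h2 : avgOp M H * avgOp M Γ = avgOp M Γ := by
    apply LinearMap.ext; intro X
    rw [Module.End.mul_apply]
    apply avgOp_fixed
    exact fun h hh => avgOp_comm M Γ X h (hHΓ hh)
  rw [← h2, LinearMap.trace_mul_comm, h1]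

/-- freeness from the trivial-intersection property -/
theorem ti_free {G : Type*} [Group G] [Finite G] (p : ℕ) [hp : Fact p.Prime] (P : Sylow p G)
    (hTI : ∀ g : G, g ∉ Subgroup.normalizer ((P : Subgroup G) : Set G) →
      (P : Subgroup G) ⊓ (MulAut.conj g • (P : Subgroup G)) = ⊥)
    (H : Subgroup G) (hH : Subgroup.normalizer ((P : Subgroup G) : Set G) ≤ H) :
    ∀ g : G, g ∉ H → ∀ u ∈ (P : Subgroup G), g⁻¹ * u * g ∈ H → u = 1 := by
  intro g hg u hu hx
  have hPH : (P : Subgroup G) ≤ H := le_trans Subgroup.le_normalizer hH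
  by_contra hu1
  -- the element x = g⁻¹ u g of H is a p-element
  obtain ⟨k, hk⟩ := (IsPGroup.iff_orderOf.mp P.2) ⟨u, hu⟩
  have hordx : orderOf (g⁻¹ * u * g) = p ^ k := by
    have h1 : orderOf (g⁻¹ * u * g) = orderOf u := by
      have := orderOf_injective (MulAut.conj g⁻¹).toMonoidHom (MulEquiv.injective _) u
      simpa using this
    rw [h1, ← hk, Subgroup.orderOf_mk]
  let xH : H := ⟨g⁻¹ * u * g, hx⟩
  have hQ : IsPGroup p (Subgroup.zpowers xH) := by
    apply IsPGroup.of_card (n := k)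
    rw [Nat.card_zpowers, Subgroup.orderOf_mk, hordx]
  obtain ⟨S, hS⟩ := hQ.exists_le_sylow
  obtain ⟨h, hh⟩ := MulAction.exists_smul_eq H S (P.subtype hPH)
  have h1 : MulAut.conj h • xH ∈ MulAut.conj h • (S : Subgroup H) :=
    Subgroup.smul_mem_pointwise_smul _ _ _ (hS (Subgroup.mem_zpowers xH))
  rw [← Sylow.pointwise_smul_def, ← Sylow.smul_def, hh, Sylow.coe_subtype,
    Subgroup.mem_subgroupOf] at h1
  have h2 : ((MulAut.conj h • xH : H) : G) = (h : G) * (g⁻¹ * u * g) * (h : G)⁻¹ := by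
    simp [xH, MulAut.smul_def]
  rw [h2] at h1
  -- y = g h⁻¹
  have hy : u ∈ MulAut.conj (g * (h : G)⁻¹) • (P : Subgroup G) := by
    rw [Subgroup.mem_pointwise_smul_iff_inv_smul_mem]
    have : (MulAut.conj (g * (h : G)⁻¹))⁻¹ • u = (h : G) * (g⁻¹ * u * g) * (h : G)⁻¹ := by
      simp [MulAut.smul_def, mul_assoc]
    rw [this]; exact h1
  by_cases hyN : g * (h : G)⁻¹ ∈ Subgroup.normalizer ((P : Subgroup G) : Set G)
  · apply hg
    have := H.mul_mem (hH hyN) h.2
    simpa using this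
  · have hbot := hTI _ hyN
    have : u ∈ (P : Subgroup G) ⊓ MulAut.conj (g * (h : G)⁻¹) • (P : Subgroup G) := ⟨hu, hy⟩
    rw [hbot] at this
    exact hu1 (Subgroup.mem_bot.mp this)

/-- A normal `p'`-subgroup centralizes a trivial-intersection Sylow `p`-subgroup when the group
has a faithful character of degree `d` with `d ^ 2 ≤ |P|`. -/
theorem ti_centralizes {G : Type*} [Group G] [Finite G] (p : ℕ) [hp : Fact p.Prime]
    (P : Sylow p G)
    (hTI : ∀ g : G, g ∉ Subgroup.normalizer ((P : Subgroup G) : Set G) →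
      (P : Subgroup G) ⊓ (MulAut.conj g • (P : Subgroup G)) = ⊥)
    (χ : G → ℂ) (hχ : IsCharacter G χ) (hfaith : ∀ g : G, χ g = χ 1 → g = 1)
    (hdeg : charDegree χ ^ 2 ≤ Nat.card ↥(P : Subgroup G))
    (K : Subgroup G) [hKn : K.Normal] (hK : (Nat.card K).Coprime p) :
    ∀ k ∈ K, ∀ u ∈ (P : Subgroup G), k * u = u * k := by
  classical
  by_cases hP1 : (P : Subgroup G) = ⊥
  · intro k _ u hu
    rw [hP1, Subgroup.mem_bot] at hu
    rw [hu, mul_one, one_mul]
  obtain ⟨n, ρ, hρ⟩ := hχ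
  obtain ⟨M, hM⟩ : ∃ M : G →* Matrix (Fin n) (Fin n) ℂ, M = repHom ρ := ⟨_, rfl⟩
  have hch : ∀ g, χ g = (M g).trace := fun g => by rw [hM, repHom_trace, hρ]
  have hn : charDegree χ = n := by
    unfold charDegree
    rw [hch 1, map_one, Matrix.trace_one]
    simp
  rw [hn] at hdeg
  have hKP : K ⊓ (P : Subgroup G) = ⊥ := by
    apply Subgroup.inf_eq_bot_of_coprime
    obtain ⟨a, ha⟩ := IsPGroup.iff_card.mp P.2
    rw [ha]
    exact Nat.Coprime.pow_right a hK
  have hKN : ∀ k ∈ K, k ∈ Subgroup.normalizer ((P : Subgroup G) : Set G) →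
      ∀ u ∈ (P : Subgroup G), k * u = u * k := by
    intro k hk hkN u hu
    have h1 : k * u * k⁻¹ * u⁻¹ ∈ K ⊓ (P : Subgroup G) := by
      constructor
      · have h2 : u * k⁻¹ * u⁻¹ ∈ K := hKn.conj_mem k⁻¹ (K.inv_mem hk) u
        have h3 : k * u * k⁻¹ * u⁻¹ = k * (u * k⁻¹ * u⁻¹) := by group
        rw [h3]; exact K.mul_mem hk h2
      · exact Subgroup.mul_mem _ ((Subgroup.mem_normalizer_iff.mp hkN u).mp hu)
          (Subgroup.inv_mem _ hu)
    rw [hKP, Subgroup.mem_bot] at h1
    calc k * u = (k * u * k⁻¹ * u⁻¹) * (u * k) := by group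
      _ = u * k := by rw [h1, one_mul]
  haveI : Nontrivial ↥(P : Subgroup G) := (Subgroup.nontrivial_iff_ne_bot _).mpr hP1
  haveI := P.2.center_nontrivial
  obtain ⟨⟨z, hz⟩, hz1⟩ := exists_ne (1 : Subgroup.center ↥(P : Subgroup G))
  have hzc : ∀ u ∈ (P : Subgroup G), (z : G) * u = u * (z : G) := by
    intro u hu
    have h1 := (Subgroup.mem_center_iff.mp hz) ⟨u, hu⟩
    have h2 := congrArg Subtype.val h1
    simp only [Subgroup.coe_mul] at h2
    exact h2.symm
  have hzne : (z : G) ≠ 1 := by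
    intro h
    apply hz1
    apply Subtype.ext
    apply Subtype.ext
    exact h
  obtain ⟨Γ, hΓ⟩ : ∃ Γ : Subgroup G, Γ = K ⊔ (P : Subgroup G) := ⟨_, rfl⟩
  obtain ⟨H', hH'⟩ : ∃ H' : Subgroup G,
      H' = Γ ⊓ Subgroup.normalizer ((P : Subgroup G) : Set G) := ⟨_, rfl⟩
  have hfree0 := ti_free p P hTI (Subgroup.normalizer ((P : Subgroup G) : Set G)) le_rfl
  have hfree : ∀ g ∈ Γ, g ∉ H' → ∀ u ∈ (P : Subgroup G), g⁻¹ * u * g ∈ H' → u = 1 := by
    intro g hg hgH u hu hx
    have hgN : g ∉ Subgroup.normalizer ((P : Subgroup G) : Set G) := by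
      intro h; apply hgH; rw [hH']; exact ⟨hg, h⟩
    rw [hH'] at hx
    exact hfree0 g hgN u hu hx.2
  have hX : ∀ h ∈ H', M h * M (z : G) = M (z : G) * M h := by
    intro h hh
    rw [hH'] at hh
    obtain ⟨hhΓ, hhN⟩ := hh
    have hmem : h ∈ ((K ⊔ (P : Subgroup G) : Subgroup G) : Set G) := by rw [← hΓ]; exact hhΓ
    rw [Subgroup.normal_mul] at hmem
    obtain ⟨k, hk, u', hu', rfl⟩ := Set.mem_mul.mp hmem
    have hkN : k ∈ Subgroup.normalizer ((P : Subgroup G) : Set G) := by
      have h1 : k = (k * u') * u'⁻¹ := by group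
      rw [h1]
      exact Subgroup.mul_mem _ hhN (Subgroup.inv_mem _ (Subgroup.le_normalizer hu'))
    have h1 : k * (z : G) = (z : G) * k := hKN k hk hkN z z.2
    have h2 : (k * u') * (z : G) = (z : G) * (k * u') := by
      rw [mul_assoc, ← hzc u' hu', ← mul_assoc, h1, mul_assoc]
    rw [← map_mul, ← map_mul, h2]
  have key := ti_commutant p M Γ H' (P : Subgroup G) (by rw [hH']; exact inf_le_left)
    (by rw [hH', hΓ]; exact le_inf le_sup_right Subgroup.le_normalizer) P.2 hfree hdeg _ hX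
  have hKz : ∀ k ∈ K, k * (z : G) = (z : G) * k := by
    intro k hk
    have h1 := key k (by rw [hΓ]; exact le_sup_left (a := K) hk)
    have h2 : M (k * (z : G) * k⁻¹ * (z : G)⁻¹) = 1 := by
      rw [map_mul, map_mul, map_mul, h1, Matrix.mul_assoc (M (z : G)), ← map_mul, mul_inv_cancel,
        map_one, Matrix.mul_one, ← map_mul, mul_inv_cancel, map_one]
    have h3 : χ (k * (z : G) * k⁻¹ * (z : G)⁻¹) = χ 1 := by rw [hch, hch, h2, map_one]
    have h4 := hfaith _ h3
    calc k * (z : G) = (k * (z : G) * k⁻¹ * (z : G)⁻¹) * ((z : G) * k) := by group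
      _ = (z : G) * k := by rw [h4, one_mul]
  have hKN' : ∀ k ∈ K, k ∈ Subgroup.normalizer ((P : Subgroup G) : Set G) := by
    intro k hk
    by_contra hkN
    have hbot := hTI k hkN
    have h5 : (z : G) ∈ MulAut.conj k • (P : Subgroup G) := by
      rw [Subgroup.mem_pointwise_smul_iff_inv_smul_mem]
      have h2 : (MulAut.conj k)⁻¹ • (z : G) = (z : G) := by
        simp only [MulAut.smul_def, MulAut.conj_inv_apply]
        calc k⁻¹ * (z : G) * k = k⁻¹ * ((z : G) * k) := by group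
          _ = k⁻¹ * (k * (z : G)) := by rw [hKz k hk]
          _ = (z : G) := by group
      rw [h2]; exact z.2
    have h1 : (z : G) ∈ (P : Subgroup G) ⊓ MulAut.conj k • (P : Subgroup G) :=
      Subgroup.mem_inf.mpr ⟨z.2, h5⟩
    rw [hbot] at h1
    exact hzne (Subgroup.mem_bot.mp h1)
  exact fun k hk u hu => hKN k hk (hKN' k hk) u hu

end Cfsg.Agent.Helper24
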